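import Cfsg.Agent.H27.Orbit.Defs

/-!
Derived subgroups of subgroups, and transfer of small stabilisers along equivariant maps.
-/

set_option autoImplicit false

namespace H21.Orbit

open MulAction
open H27.Orbit

section dIn

variable {G G' : Type*} [Group G] [Group G']

theorem dIn_zero (H : Subgroup G) : dIn H 0 = H := by
  rw [dIn, derivedSeries_zero, ← MonoidHom.range_eq_map, Subgroup.range_subtype]

theorem dIn_succ (H : Subgroup G) (n : ℕ) : dIn H (n + 1) = ⁅dIn H n, dIn H n⁆ := by
  rw [dIn, derivedSeries_succ, Subgroup.map_commutator]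
  rfl

theorem map_dIn (f : G →* G') (H : Subgroup G) (n : ℕ) : (dIn H n).map f = dIn (H.map f) n := by
  induction n with
  | zero => rw [dIn_zero, dIn_zero]
  | succ n ih => rw [dIn_succ, dIn_succ, Subgroup.map_commutator, ih]

theorem dIn_mono {H K : Subgroup G} (h : H ≤ K) (n : ℕ) : dIn H n ≤ dIn K n := by
  induction n with
  | zero => rwa [dIn_zero, dIn_zero]
  | succ n ih => rw [dIn_succ, dIn_succ]; exact Subgroup.commutator_mono ih ih

theorem dIn_le (H : Subgroup G) (n : ℕ) : dIn H n ≤ H := by
  rw [dIn]; exact Subgroup.map_subtype_le _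

theorem dIn_add (H : Subgroup G) (a n : ℕ) : dIn H (a + n) = dIn (dIn H a) n := by
  induction n with
  | zero => rw [dIn_zero, Nat.add_zero]
  | succ n ih => rw [← Nat.add_assoc, dIn_succ, dIn_succ, ih]

theorem dIn_anti (H : Subgroup G) {m n : ℕ} (h : m ≤ n) : dIn H n ≤ dIn H m := by
  obtain ⟨k, rfl⟩ := Nat.exists_eq_add_of_le h
  rw [dIn_add]
  exact dIn_le _ _

end dIn

theorem SmallStab.mono {G V : Type*} [Group G] [MulAction G V] {d d' : ℕ} (hd : d ≤ d') {v : V}
    (h : SmallStab G V d v) : SmallStab G V d' v :=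
  fun g hg => h g (dIn_anti _ hd hg)

/-- Pulling back a small stabiliser along an injective equivariant map. -/
theorem SmallStab.pullback {G G' X X' : Type*} [Group G] [Group G'] [MulAction G X] [MulAction G' X']
    (f : G →* G') (e : X → X') (he : Function.Injective e)
    (heq : ∀ (g : G) (x : X), e (g • x) = f g • e x) {d : ℕ} {v : X}
    (h : SmallStab G' X' d (e v)) : SmallStab G X d v := by
  intro g hg x
  apply he
  rw [heq]
  refine h (f g) ?_ (e x)
  have h1 : f g ∈ dIn ((stabilizer G v).map f) d := map_dIn f _ d ▸ ⟨g, hg, rfl⟩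
  refine dIn_mono ?_ d h1
  rintro _ ⟨a, ha, rfl⟩
  rw [mem_stabilizer_iff, ← heq, mem_stabilizer_iff.1 ha]

/-- Vectors in different orbits stay so for a group acting through a homomorphism. -/
theorem Spread.pullback {G G' V : Type*} [Group G] [Group G'] [MulAction G V] [MulAction G' V]
    (f : G →* G') (heq : ∀ (g : G) (x : V), g • x = f g • x) {c d : ℕ}
    (h : Spread c d G' V) : Spread c d G V := by
  obtain ⟨t, h1, h2⟩ := h
  exact ⟨t, fun i => SmallStab.pullback f id Function.injective_id heq (h1 i),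
    fun i j g hg => h2 i j (f g) (by rw [← heq]; exact hg)⟩

theorem Good.pullback {G G' V : Type*} [Group G] [Group G'] [MulAction G V] [MulAction G' V]
    (f : G →* G') (heq : ∀ (g : G) (x : V), g • x = f g • x) (h : Good G' V) : Good G V :=
  h.imp (Spread.pullback f heq) (Or.imp (Spread.pullback f heq) (Spread.pullback f heq))

theorem Good.exists_smallStab {G V : Type*} [Group G] [MulAction G V] (h : Good G V) :
    ∃ v : V, SmallStab G V 9 v := by
  rcases h with ⟨t, h, -⟩ | ⟨t, h, -⟩ | ⟨t, h, -⟩
  · exact ⟨t 0, h 0⟩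
  · exact ⟨t 0, SmallStab.mono (by norm_num) (h 0)⟩
  · exact ⟨t 0, SmallStab.mono (by norm_num) (h 0)⟩

/-- The derived series of a stabiliser of a faithful action. -/
theorem derivedSeries_eq_bot {G V : Type*} [Group G] [MulAction G V] [FaithfulSMul G V] {d : ℕ}
    {v : V} (h : SmallStab G V d v) : derivedSeries ↥(stabilizer G v) d = ⊥ := by
  refine (Subgroup.eq_bot_iff_forall _).2 fun g hg => Subtype.ext ?_
  exact eq_of_smul_eq_smul fun x : V => by rw [h g.1 ⟨g, hg, rfl⟩ x, Subgroup.coe_one, one_smul]

theorem isMulCommutative_stabilizer {G V : Type*} [Group G] [MulAction G V] [FaithfulSMul G V]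
    {v : V} (h : SmallStab G V 1 v) : IsMulCommutative ↥(stabilizer G v) := by
  refine ⟨⟨fun a b => ?_⟩⟩
  have h1 := derivedSeries_eq_bot h
  rw [derivedSeries_one, commutator_eq_bot_iff] at h1
  exact h1.is_comm.comm a b

end H21.Orbit
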