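import Cfsg.Agent.H21.Orbit.Basic

/-!
The set of parts of a decomposition: transitivity, primitivity of a coarsest one, and gluing of
vectors with small stabilisers along colourings.
-/

set_option autoImplicit false
set_option linter.style.haveILetI false
set_option linter.unusedSectionVars false

namespace H21.Orbit

open MulAction
open H27.Orbit
open H35.OddBase (IsIrr)
open scoped Pointwise

/-- The parts of a decomposition. -/
def Blk {G V : Type} [Group G] [AddCommGroup V] [DistribMulAction G V]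
    {E : Finset (AddMonoid.End V)}
    (_hE : H34.IsDecomp (DistribMulAction.toAddMonoidEnd G V) E) : Type :=
  {e : AddMonoid.End V // e ∈ E}

variable {G V : Type} [Group G] [AddCommGroup V] [DistribMulAction G V]
  {E : Finset (AddMonoid.End V)} (hE : H34.IsDecomp (DistribMulAction.toAddMonoidEnd G V) E)

/-- The group permutes the parts. -/
instance : MulAction G (Blk hE) where
  smul g e := ⟨_, hE.conj g e.1 e.2⟩
  one_smul e := Subtype.ext (H34.conj_one_arg _ e.1)
  mul_smul g h e := Subtype.ext (H34.conj_conj _ g h e.1).symm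

instance : Fintype (Blk hE) := inferInstanceAs (Fintype {e : AddMonoid.End V // e ∈ E})

theorem blk_smul (g : G) (e : Blk hE) (x : V) : (g • e).1 (g • x) = g • e.1 x := by
  show g • e.1 (g⁻¹ • g • x) = g • e.1 x
  rw [inv_smul_smul]

theorem blk_idem (e : Blk hE) (x : V) : e.1 (e.1 x) = e.1 x :=
  DFunLike.congr_fun (hE.idem e.1 e.2) x

theorem blk_orth {e f : Blk hE} (h : e ≠ f) (x : V) : e.1 (f.1 x) = 0 :=
  DFunLike.congr_fun (hE.orth e.1 e.2 f.1 f.2 fun h' => h (Subtype.ext h')) x

theorem blk_sum : ∑ e : Blk hE, e.1 = (1 : AddMonoid.End V) := by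
  have h := hE.sum_eq
  rw [← Finset.sum_coe_sort] at h
  exact h

theorem blk_sum_apply (x : V) : ∑ e : Blk hE, e.1 x = x := by
  let ev : AddMonoid.End V →+ V := AddMonoidHom.mk' (fun f => f x) fun _ _ => rfl
  exact (map_sum ev (fun e : Blk hE => e.1) _).symm.trans (DFunLike.congr_fun (blk_sum hE) x)

theorem blk_exists (e : Blk hE) : ∃ x : V, e.1 x = x ∧ x ≠ 0 := by
  obtain ⟨x, hx⟩ : ∃ x, e.1 x ≠ 0 := by
    by_contra h
    push Not at h
    exact hE.ne_zero e.1 e.2 (AddMonoidHom.ext h)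
  exact ⟨_, blk_idem hE e x, hx⟩

/-- In an irreducible module the parts are permuted transitively. -/
theorem blk_pretransitive (hirr : IsIrr G V) : IsPretransitive G (Blk hE) := by
  refine ⟨fun a b => ?_⟩
  by_contra hb
  let U : AddSubgroup V :=
    { carrier := {x | ∀ e : Blk hE, e ∉ orbit G a → e.1 x = 0}
      zero_mem' := fun e _ => map_zero e.1
      add_mem' := fun hx hy e he => by rw [map_add, hx e he, hy e he, add_zero]
      neg_mem' := fun hx e he => by rw [map_neg, hx e he, neg_zero] }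
  have hU : ∀ g : G, ∀ x ∈ U, g • x ∈ U := by
    intro g x hx e he
    have h := blk_smul hE g (g⁻¹ • e) x
    rw [smul_inv_smul] at h
    rw [h, hx _ (fun h' => he ((orbit_eq_iff.2 h').subset ⟨g, smul_inv_smul g e⟩)), smul_zero]
  obtain ⟨x, hx, hx0⟩ := blk_exists hE a
  obtain ⟨y, hy, hy0⟩ := blk_exists hE b
  rcases hirr.2 U hU with h | h
  · refine hx0 (AddSubgroup.mem_bot.1 (h.le ?_))
    intro e he
    rw [← hx]
    exact blk_orth hE (fun hea : e = a => he (by rw [hea]; exact mem_orbit_self a)) x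
  · refine hy0 ?_
    rw [← hy]
    exact h.ge (AddSubgroup.mem_top y) b hb

/-- The parts of a coarsest decomposition are permuted primitively. -/
theorem blk_preprimitive [Finite G] (hirr : IsIrr G V)
    (hmin : ∀ E' : Finset (AddMonoid.End V),
      H34.IsDecomp (DistribMulAction.toAddMonoidEnd G V) E' → 1 < E'.card → E.card ≤ E'.card) :
    IsPreprimitive G (Blk hE) := by
  classical
  haveI := blk_pretransitive hE hirr
  haveI := Fintype.ofFinite G
  set φ := DistribMulAction.toAddMonoidEnd G V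
  refine { isTrivialBlock_of_isBlock := fun {B} hB => ?_ }
  by_contra hnt
  rw [IsTrivialBlock, not_or] at hnt
  obtain ⟨hns, hnu⟩ := hnt
  obtain ⟨a, ha, b, hb, hab⟩ := Set.not_subsingleton_iff.1 hns
  obtain ⟨e₁, he₁⟩ := (Set.ne_univ_iff_exists_notMem B).1 hnu
  let tr : G → Finset (Blk hE) := fun g => Finset.univ.filter fun e => g⁻¹ • e ∈ B
  have htr : ∀ g h : G, (∃ e, e ∈ tr g ∧ e ∈ tr h) → tr g = tr h := by
    rintro g h ⟨e, he, he'⟩
    simp only [tr, Finset.mem_filter, Finset.mem_univ, true_and] at he he'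
    by_contra hne
    have hne' : g • B ≠ h • B := fun h' => hne (Finset.ext fun f => by
      simp only [tr, Finset.mem_filter, Finset.mem_univ, true_and, ← Set.mem_smul_set_iff_inv_smul_mem, h'])
    exact Set.disjoint_left.1 (hB hne') (Set.mem_smul_set_iff_inv_smul_mem.2 he)
      (Set.mem_smul_set_iff_inv_smul_mem.2 he')
  let s : Finset (Blk hE) → AddMonoid.End V := fun T => ∑ e ∈ T, e.1
  have hmul : ∀ T T' : Finset (Blk hE), s T * s T' = s (T ∩ T') := by
    intro T T'
    simp only [s]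
    rw [Finset.sum_mul_sum, ← Finset.sum_ite_mem]
    refine Finset.sum_congr rfl fun e _ => ?_
    have horth' : ∀ f : Blk hE, f ≠ e → e.1 * f.1 = 0 :=
      fun f hf => hE.orth e.1 e.2 f.1 f.2 fun h' => hf (Subtype.ext h'.symm)
    by_cases he : e ∈ T'
    · rw [if_pos he, Finset.sum_eq_single e (fun f _ hf => horth' f hf) (fun h => absurd he h)]
      exact hE.idem e.1 e.2
    · rw [if_neg he]
      exact Finset.sum_eq_zero fun f hf => horth' f fun hfe => he (hfe ▸ hf)
  let 𝔅 : Finset (Finset (Blk hE)) := Finset.univ.image tr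
  have hne : ∀ T ∈ 𝔅, T.Nonempty := by
    intro T hT
    obtain ⟨g, -, rfl⟩ := Finset.mem_image.1 hT
    exact ⟨g • a, by simp [tr, ha]⟩
  have hdisj : ∀ T ∈ 𝔅, ∀ T' ∈ 𝔅, T ≠ T' → T ∩ T' = ∅ := by
    intro T hT T' hT' hne'
    obtain ⟨g, -, rfl⟩ := Finset.mem_image.1 hT
    obtain ⟨h, -, rfl⟩ := Finset.mem_image.1 hT'
    by_contra h0
    obtain ⟨e, he⟩ := Finset.nonempty_iff_ne_empty.2 h0
    exact hne' (htr g h ⟨e, Finset.mem_inter.1 he⟩)
  have hs0 : ∀ T ∈ 𝔅, s T ≠ 0 := by
    intro T hT h0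
    obtain ⟨e, he⟩ := hne T hT
    have h1 := hmul {e} T
    rw [Finset.singleton_inter_of_mem he, h0, mul_zero] at h1
    exact hE.ne_zero e.1 e.2 (by simpa [s] using h1.symm)
  have hinj : Set.InjOn s ↑𝔅 := by
    intro T hT T' hT' h
    by_contra hne'
    have h1 := hmul T T'
    rw [hdisj T hT T' hT' hne', ← h, hmul, Finset.inter_self] at h1
    exact hs0 T hT (h1.trans Finset.sum_empty)
  have hcov : 𝔅.biUnion id = Finset.univ := by
    refine Finset.eq_univ_of_forall fun e => ?_
    obtain ⟨g, hg⟩ := exists_smul_eq G a e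
    exact Finset.mem_biUnion.2 ⟨tr g, Finset.mem_image_of_mem tr (Finset.mem_univ g), by simp [tr, ← hg, ha]⟩
  have hconj : ∀ (x : G) (g : G), φ x * s (tr g) * φ x⁻¹ = s (tr (x * g)) := by
    intro x g
    simp only [s, Finset.mul_sum, Finset.sum_mul]
    refine Finset.sum_equiv (MulAction.toPerm x) (fun e => ?_) (fun e _ => rfl)
    simp [tr, mul_smul]
  have hdec : H34.IsDecomp φ (𝔅.image s) := by
    refine ⟨?_, ?_, ?_, ?_, ?_⟩
    · intro e he
      obtain ⟨T, hT, rfl⟩ := Finset.mem_image.1 he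
      rw [hmul, Finset.inter_self]
    · intro e he
      obtain ⟨T, hT, rfl⟩ := Finset.mem_image.1 he
      exact hs0 T hT
    · intro e he f hf hef
      obtain ⟨T, hT, rfl⟩ := Finset.mem_image.1 he
      obtain ⟨T', hT', rfl⟩ := Finset.mem_image.1 hf
      rw [hmul, hdisj T hT T' hT' fun h => hef (congrArg s h)]
      exact Finset.sum_empty
    · rw [Finset.sum_image hinj]
      have h := blk_sum hE
      rw [← hcov, Finset.sum_biUnion] at h
      · exact h
      · intro T hT T' hT' hne'
        exact Finset.disjoint_iff_inter_eq_empty.2 (hdisj T hT T' hT' hne')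
    · intro x e he
      obtain ⟨T, hT, rfl⟩ := Finset.mem_image.1 he
      obtain ⟨g, -, rfl⟩ := Finset.mem_image.1 hT
      rw [hconj]
      exact Finset.mem_image_of_mem s (Finset.mem_image_of_mem tr (Finset.mem_univ _))
  have hcard := Finset.card_image_of_injOn hinj
  have h1 : tr 1 ∈ 𝔅 := Finset.mem_image_of_mem tr (Finset.mem_univ _)
  obtain ⟨g, hg⟩ := exists_smul_eq G a e₁
  have h2 : tr g ∈ 𝔅 := Finset.mem_image_of_mem tr (Finset.mem_univ _)
  have h12 : tr 1 ≠ tr g := by
    intro h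
    have : e₁ ∈ tr g := by simp [tr, ← hg, ha]
    rw [← h] at this
    exact he₁ (by simpa [tr] using this)
  have hlt : 𝔅.card < Fintype.card (Blk hE) := by
    have hex : ∀ e : Blk hE, ∃ T : ↥𝔅, e ∈ T.1 := fun e => by
      obtain ⟨T, hT, he⟩ := Finset.mem_biUnion.1 (hcov.ge (Finset.mem_univ e))
      exact ⟨⟨T, hT⟩, he⟩
    choose π hπ using hex
    have huniq : ∀ (e : Blk hE) (T : ↥𝔅), e ∈ T.1 → π e = T := fun e T he => Subtype.ext (by
      by_contra hne'
      exact Finset.notMem_empty e (hdisj _ (π e).2 _ T.2 hne' ▸ Finset.mem_inter.2 ⟨hπ e, he⟩))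
    rw [← Fintype.card_coe 𝔅]
    refine Fintype.card_lt_of_surjective_not_injective π (fun T => ?_) fun h => ?_
    · obtain ⟨e, he⟩ := hne T.1 T.2
      exact ⟨e, huniq e T he⟩
    · refine hab (h ?_)
      rw [huniq a ⟨_, h1⟩ (by simp [tr, ha]), huniq b ⟨_, h1⟩ (by simp [tr, hb])]
  have hbig := hmin _ hdec (by rw [hcard]; exact Finset.one_lt_card.2 ⟨_, h1, _, h2, h12⟩)
  rw [hcard] at hbig
  have hE' : Fintype.card (Blk hE) = E.card := Fintype.card_coe E
  omega

/-- The restriction to one part and gluing of vectors with small stabilisers along colourings. -/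
theorem exists_part [Finite G] [Finite V] (hirr : IsIrr G V) (hE2 : 1 < E.card) :
    ∃ (H : Subgroup G) (W : Type) (_ : AddCommGroup W) (_ : Finite W) (_ : DistribMulAction ↥H W),
      IsIrr ↥H W ∧ Nat.card W < Nat.card V ∧ Nat.card W ∣ Nat.card V ∧
      ∀ (c d : ℕ) (nz : Prop) (a : Fin c → W), (∀ i, SmallStab ↥H W d (a i)) →
        (∀ (i j : Fin c) (h : ↥H), h • a i = a j → i = j) → (nz → ∀ i, a i ≠ 0) →
        ∃ D : (Blk hE → Fin c) → V,
          (∀ (g : G) (col col' : Blk hE → Fin c), g • D col = D col' → ∀ ω, col' (g • ω) = col ω) ∧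
          (∀ (col : Blk hE → Fin c) (b : ℕ),
            (∀ g ∈ dIn (colStab (G := G) col) b, ∀ ω : Blk hE, g • ω = ω) →
            SmallStab G V (b + d) (D col)) ∧
          (nz → ∀ col, D col ≠ 0) := by
  classical
  haveI := blk_pretransitive hE hirr
  obtain ⟨e0, he0⟩ := Finset.card_pos.1 (by omega : 0 < E.card)
  let e : Blk hE := ⟨e0, he0⟩
  have htr : ∀ ω : Blk hE, ∃ t : G, t • e = ω := fun ω => exists_smul_eq G e ω
  choose t ht using htr
  let W : AddSubgroup V := (e.1 : V →+ V).eqLocus (AddMonoidHom.id V)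
  have hWmem : ∀ x, x ∈ W ↔ e.1 x = x := fun _ => Iff.rfl
  let H := stabilizer G e
  have hWinv : ∀ (g : ↥H) (x : V), x ∈ W → (g : G) • x ∈ W := fun g x hx => by
    rw [hWmem] at hx ⊢
    have h := blk_smul hE g e x
    rw [show (g : G) • e = e from g.2, hx] at h
    exact h
  letI : DistribMulAction ↥H ↥W :=
    { smul := fun g x => ⟨(g : G) • x.1, hWinv g x.1 x.2⟩
      one_smul := fun x => Subtype.ext (one_smul G x.1)
      mul_smul := fun g h x => Subtype.ext (mul_smul (g : G) (h : G) x.1)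
      smul_zero := fun g => Subtype.ext (smul_zero (g : G))
      smul_add := fun g x y => Subtype.ext (smul_add (g : G) x.1 y.1) }
  haveI : Nontrivial ↥W := by
    obtain ⟨x, hx, hx0⟩ := blk_exists hE e
    exact ⟨⟨⟨x, hx⟩, 0, fun h => hx0 (congrArg Subtype.val h)⟩⟩
  have hWirr : IsIrr ↥H ↥W := by
    refine ⟨inferInstance, fun U hU => ?_⟩
    by_cases hU0 : U = ⊥
    · exact Or.inl hU0
    right
    let U' : AddSubgroup V := AddSubgroup.closure {x | ∃ g : G, ∃ u ∈ U, g • (u : V) = x}
    have hU' : ∀ g : G, ∀ x ∈ U', g • x ∈ U' := by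
      intro g x hx
      induction hx using AddSubgroup.closure_induction with
      | mem x hx =>
        obtain ⟨h, u, hu, rfl⟩ := hx
        exact AddSubgroup.subset_closure ⟨g * h, u, hu, mul_smul _ _ _⟩
      | zero => rw [smul_zero]; exact zero_mem _
      | add x y _ _ hx hy => rw [smul_add]; exact add_mem hx hy
      | neg x _ hx => rw [smul_neg]; exact neg_mem hx
    have hU'top : U' = ⊤ := (hirr.2 U' hU').resolve_left fun h => hU0 ((AddSubgroup.eq_bot_iff_forall _).2
      fun u hu => Subtype.ext (by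
        have : (u : V) ∈ U' := AddSubgroup.subset_closure ⟨1, u, hu, one_smul _ _⟩
        rw [h, AddSubgroup.mem_bot] at this
        exact this))
    refine (AddSubgroup.eq_top_iff' _).2 fun w => ?_
    have key : ∀ x ∈ U', (⟨e.1 x, blk_idem hE e x⟩ : ↥W) ∈ U := by
      intro x hx
      induction hx using AddSubgroup.closure_induction with
      | mem x hx =>
        obtain ⟨g, u, hu, rfl⟩ := hx
        by_cases hg : g • e = e
        · have h := hU ⟨g, hg⟩ u hu
          have heq : (⟨e.1 (g • (u : V)), blk_idem hE e _⟩ : ↥W) = (⟨g, hg⟩ : ↥H) • u :=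
            Subtype.ext (by
              show e.1 (g • (u : V)) = g • (u : V)
              exact hWinv ⟨g, hg⟩ u u.2)
          rw [heq]; exact h
        · have h := blk_smul hE g e u
          rw [(hWmem u).1 u.2] at h
          have heq : (⟨e.1 (g • (u : V)), blk_idem hE e _⟩ : ↥W) = 0 := Subtype.ext (by
            show e.1 (g • (u : V)) = 0
            rw [← h]; exact blk_orth hE (Ne.symm hg) _)
          rw [heq]; exact zero_mem _
      | zero =>
        have heq : (⟨e.1 0, blk_idem hE e _⟩ : ↥W) = 0 := Subtype.ext (map_zero e.1)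
        rw [heq]; exact zero_mem _
      | add x y _ _ hx hy =>
        have heq : (⟨e.1 (x + y), blk_idem hE e _⟩ : ↥W) = ⟨e.1 x, blk_idem hE e x⟩ + ⟨e.1 y, blk_idem hE e y⟩ :=
          Subtype.ext (map_add e.1 x y)
        rw [heq]; exact add_mem hx hy
      | neg x _ hx =>
        have heq : (⟨e.1 (-x), blk_idem hE e _⟩ : ↥W) = -⟨e.1 x, blk_idem hE e x⟩ := Subtype.ext (map_neg e.1 x)
        rw [heq]; exact neg_mem hx
    have h := key w (hU'top ▸ AddSubgroup.mem_top _)
    have heq : (⟨e.1 (w : V), blk_idem hE e _⟩ : ↥W) = w := Subtype.ext w.2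
    rwa [heq] at h
  have hlt : Nat.card ↥W < Nat.card V := by
    have hΩ : 1 < Fintype.card (Blk hE) := by
      rw [show Fintype.card (Blk hE) = E.card from Fintype.card_coe E]; exact hE2
    obtain ⟨f, hf⟩ := Fintype.exists_ne_of_one_lt_card hΩ e
    obtain ⟨x, hx, hx0⟩ := blk_exists hE f
    refine Finite.card_subtype_lt (x := x) fun h => hx0 ?_
    rw [← (hWmem _).1 h, ← hx]; exact blk_orth hE (Ne.symm hf) x
  refine ⟨H, ↥W, inferInstance, inferInstance, inferInstance, hWirr, hlt,
    AddSubgroup.card_addSubgroup_dvd_card W, fun c d nz a ha1 ha2 ha3 => ?_⟩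
  have hfix : ∀ (i : Fin c) (ω : Blk hE), ω.1 (t ω • (a i : V)) = t ω • (a i : V) := fun i ω => by
    have h := blk_smul hE (t ω) e (a i)
    rwa [ht ω, (hWmem _).1 (a i).2] at h
  let D : (Blk hE → Fin c) → V := fun col => ∑ ω, t ω • (a (col ω) : V)
  have hcomp : ∀ (col : Blk hE → Fin c) (ω : Blk hE), ω.1 (D col) = t ω • (a (col ω) : V) := by
    intro col ω
    rw [map_sum, Finset.sum_eq_single ω (fun f _ hf => by
      rw [← hfix]; exact blk_orth hE (Ne.symm hf) _) (fun h => absurd (Finset.mem_univ ω) h), hfix]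
  have hrel : ∀ (g : G) (col col' : Blk hE → Fin c), g • D col = D col' → ∀ ω,
      ((t (g • ω))⁻¹ * g * t ω) • e = e ∧
        ((t (g • ω))⁻¹ * g * t ω) • (a (col ω) : V) = (a (col' (g • ω)) : V) := by
    intro g col col' hg ω
    constructor
    · rw [mul_smul, mul_smul, ht ω, inv_smul_eq_iff]; exact (ht (g • ω)).symm
    · have h := blk_smul hE g ω (D col)
      rw [hg, hcomp, hcomp] at h
      rw [mul_smul, mul_smul, ← h, inv_smul_smul]
  refine ⟨D, fun g col col' hg ω => ?_, fun col b hb g hg x => ?_, fun hnz col h0 => ?_⟩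
  · obtain ⟨h1, h2⟩ := hrel g col col' hg ω
    exact (ha2 _ _ ⟨_, h1⟩ (Subtype.ext h2)).symm
  · -- the derived subgroup of the stabiliser fixes the parts and is small on each of them
    have hcs : stabilizer G (D col) ≤ colStab (G := G) col := fun k hk ω => by
      obtain ⟨h1, h2⟩ := hrel k col col (mem_stabilizer_iff.1 hk) ω
      exact (ha2 _ _ ⟨_, h1⟩ (Subtype.ext h2)).symm
    set M := dIn (stabilizer G (D col)) b with hM
    rw [dIn_add, ← hM] at hg
    conv_lhs => rw [← blk_sum_apply hE x]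
    conv_rhs => rw [← blk_sum_apply hE x]
    rw [Finset.smul_sum]
    refine Finset.sum_congr rfl fun ω _ => ?_
    let f : G →* G := (MulAut.conj (t ω)⁻¹).toMonoidHom
    have hf : ∀ k : G, f k = (t ω)⁻¹ * k * t ω := fun k => by simp [f, MulAut.conj_apply]
    have hMle : M.map f ≤ (stabilizer ↥H (a (col ω))).map H.subtype := by
      rintro _ ⟨k, hk, rfl⟩
      have hkω : k • ω = ω := hb k (dIn_mono hcs b hk) ω
      obtain ⟨h1, h2⟩ := hrel k col col (mem_stabilizer_iff.1 (dIn_le _ b hk)) ω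
      rw [hkω, ← hf] at h1 h2
      exact ⟨⟨f k, h1⟩, Subtype.ext h2, rfl⟩
    have hmem : f g ∈ dIn (M.map f) d := map_dIn f M d ▸ ⟨g, hg, rfl⟩
    obtain ⟨h, hh, hhg⟩ := (map_dIn H.subtype _ d).ge (dIn_mono hMle d hmem)
    have hy : (t ω)⁻¹ • ω.1 x ∈ W := by
      rw [hWmem]
      have h' := blk_smul hE (t ω)⁻¹ ω (ω.1 x)
      rwa [show (t ω)⁻¹ • ω = e from inv_smul_eq_iff.2 (ht ω).symm, blk_idem] at h'
    have h1 : f g • ((t ω)⁻¹ • ω.1 x) = (t ω)⁻¹ • ω.1 x := by
      rw [← hhg]
      exact congrArg Subtype.val (ha1 (col ω) h hh ⟨_, hy⟩)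
    rw [hf, mul_smul, mul_smul, smul_inv_smul] at h1
    exact MulAction.injective (t ω)⁻¹ h1
  · have h := hcomp col e
    rw [h0, map_zero, eq_comm, smul_eq_zero_iff_eq] at h
    exact ha3 hnz (col e) (Subtype.ext h)

end H21.Orbit
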