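import Cfsg.Agent.H21.Orbit.Main

/-!
The derived length theorem in any universe, given the primitive cases.
-/

set_option autoImplicit false
set_option linter.style.haveILetI false

namespace H21.Orbit

open MulAction
open H27.Orbit
open H35.OddBase (IsCR)

universe u v

/-- Complete reducibility over the prime field is complete reducibility of the additive group. -/
theorem isCR_of_submodules {G : Type u} {V : Type v} [Group G] {p : ℕ} [AddCommGroup V]
    [Module (ZMod p) V] [DistribMulAction G V]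
    (hcr : ∀ W : Submodule (ZMod p) V, (∀ (g : G) (w : V), w ∈ W → g • w ∈ W) →
      ∃ W' : Submodule (ZMod p) V, (∀ (g : G) (w : V), w ∈ W' → g • w ∈ W') ∧ IsCompl W W') :
    IsCR G V := by
  intro U hU
  obtain ⟨W, hW, hc⟩ := hcr (AddSubgroup.toZModSubmodule p U) fun g w hw => hU g w hw
  refine ⟨W.toAddSubgroup, hW, ?_, ?_⟩
  · refine (AddSubgroup.eq_bot_iff_forall _).2 fun x hx => ?_
    exact (Submodule.mem_bot (R := ZMod p)).1 (hc.inf_eq_bot.le (show x ∈ AddSubgroup.toZModSubmodule p U ⊓ W from hx))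
  · refine (AddSubgroup.eq_top_iff' _).2 fun x => ?_
    obtain ⟨a, ha, b, hb, rfl⟩ := Submodule.mem_sup.1 (hc.sup_eq_top.ge (Submodule.mem_top (x := x)))
    exact AddSubgroup.mem_sup.2 ⟨a, ha, b, hb, rfl⟩

/-- The body of the derived length theorem, given the primitive cases. -/
theorem body_of_prim (hP : PrimColours) (hL : PrimLinear) (hO : PrimOdd)
    {G : Type u} {V : Type v} [Group G] [Finite G] [Group.IsSolvable G]
    {p : ℕ} [Fact p.Prime] [AddCommGroup V] [Module (ZMod p) V] [Finite V] [DistribMulAction G V]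
    [FaithfulSMul G V]
    (hcr : ∀ W : Submodule (ZMod p) V, (∀ (g : G) (w : V), w ∈ W → g • w ∈ W) →
      ∃ W' : Submodule (ZMod p) V, (∀ (g : G) (w : V), w ∈ W' → g • w ∈ W') ∧ IsCompl W W') :
    (∃ v : V, derivedSeries ↥(MulAction.stabilizer G v) 9 = ⊥) ∧
    (Odd (Nat.card G) → p ≠ 2 → ∃ v : V, IsMulCommutative ↥(MulAction.stabilizer G v)) := by
  have hcrV := isCR_of_submodules hcr
  obtain ⟨G', iG, fG, ⟨eG⟩⟩ := Finite.exists_type_univ_nonempty_mulEquiv.{u, 0} G
  haveI : Finite G' := Finite.of_fintype G'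
  haveI : Small.{0} V := inferInstance
  let e : Shrink.{0} V ≃+ V := Shrink.addEquiv
  haveI : Finite (Shrink.{0} V) := Finite.of_equiv V e.toEquiv.symm
  letI : DistribMulAction G' (Shrink.{0} V) :=
    { smul := fun g x => e.symm (eG.symm g • e x)
      one_smul := fun x => by show e.symm (eG.symm 1 • e x) = x; simp
      mul_smul := fun g h x => by
        show e.symm (eG.symm (g * h) • e x) = e.symm (eG.symm g • e (e.symm (eG.symm h • e x)))
        simp [mul_smul]
      smul_zero := fun g => by show e.symm (eG.symm g • e 0) = 0; simp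
      smul_add := fun g x y => by
        show e.symm (eG.symm g • e (x + y)) = e.symm (eG.symm g • e x) + e.symm (eG.symm g • e y)
        simp [smul_add] }
  have heq : ∀ (g : G) (x : V), e.symm (g • x) = eG.toMonoidHom g • e.symm x := fun g x => by
    show _ = e.symm (eG.symm (eG g) • e (e.symm x))
    rw [eG.symm_apply_apply, e.apply_symm_apply]
  have hs' : Group.IsSolvable G' :=
    Group.isSolvable_of_surjective (f := eG.toMonoidHom) eG.surjective
  have hcr' : IsCR G' (Shrink.{0} V) := by
    intro U hU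
    obtain ⟨W, hW, hb, ht⟩ := hcrV (U.map e.toAddMonoidHom) (by
      rintro g _ ⟨x, hx, rfl⟩
      refine ⟨e.symm (g • e x), ?_, e.apply_symm_apply _⟩
      have h := hU (eG g) x hx
      change e.symm (eG.symm (eG g) • e x) ∈ U at h
      rwa [eG.symm_apply_apply] at h)
    refine ⟨W.comap e.toAddMonoidHom, fun g x hx => ?_, ?_, ?_⟩
    · show e (e.symm (eG.symm g • e x)) ∈ W
      rw [e.apply_symm_apply]; exact hW _ _ hx
    · refine (AddSubgroup.eq_bot_iff_forall _).2 fun x hx => e.injective ?_
      rw [map_zero]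
      exact AddSubgroup.mem_bot.1 (hb.le ⟨⟨x, hx.1, rfl⟩, hx.2⟩)
    · refine (AddSubgroup.eq_top_iff' _).2 fun x => ?_
      obtain ⟨_, ⟨a, ha, rfl⟩, b, hb', hab⟩ := AddSubgroup.mem_sup.1 (ht.symm.le (AddSubgroup.mem_top (e x)))
      refine AddSubgroup.mem_sup.2 ⟨a, ha, e.symm b, ?_, e.injective ?_⟩
      · show e (e.symm b) ∈ W
        rwa [e.apply_symm_apply]
      · rw [map_add, e.apply_symm_apply]; exact hab
  have back : ∀ (d : ℕ) (v : Shrink.{0} V), SmallStab G' (Shrink.{0} V) d v → SmallStab G V d (e v) :=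
    fun d v h => SmallStab.pullback eG.toMonoidHom e.symm e.symm.injective heq
      (by rwa [e.symm_apply_apply])
  refine ⟨?_, fun hodd hp2 => ?_⟩
  · obtain ⟨v, hv⟩ := exists_nine hP hL hs' hcr'
    exact ⟨e v, derivedSeries_eq_bot (back _ _ hv)⟩
  · have hV : Odd (Nat.card (Shrink.{0} V)) := by
      rw [Nat.card_congr e.toEquiv, Module.natCard_eq_pow_finrank (K := ZMod p), Nat.card_zmod]
      exact ((Fact.out : p.Prime).odd_of_ne_two hp2).pow
    have hG : Odd (Nat.card G') := (Nat.card_congr eG.toEquiv).symm ▸ hodd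
    obtain ⟨v, hv⟩ := exists_one hO hG hV hcr'
    exact ⟨e v, isMulCommutative_stabilizer (back _ _ hv)⟩

end H21.Orbit
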