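import Cfsg.Agent.H21.Orbit.Basic

/-!
The faithful quotient, splittings, and the passage from irreducible modules to completely
reducible ones.
-/

set_option autoImplicit false
set_option linter.style.haveILetI false

namespace H21.Orbit

open MulAction
open H27.Orbit
open H35.OddBase (IsCR IsIrr)

/-- The faithful quotient of an action. -/
theorem exists_faithful (G V : Type) [Group G] [Finite G] [AddCommGroup V] [DistribMulAction G V] :
    ∃ (Q : Type) (_ : Group Q) (_ : Finite Q) (_ : DistribMulAction Q V) (_ : FaithfulSMul Q V)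
      (f : G →* Q), Function.Surjective f ∧ ∀ (g : G) (v : V), g • v = f g • v := by
  classical
  let f : G →* Equiv.Perm V := MulAction.toPermHom G V
  let Q := G ⧸ f.ker
  have hwd : ∀ a b : G, a⁻¹ * b ∈ f.ker → ∀ v : V, a • v = b • v := fun a b h v => by
    have h1 : (a⁻¹ * b) • v = v := DFunLike.congr_fun (MonoidHom.mem_ker.1 h) v
    rw [mul_smul, inv_smul_eq_iff] at h1
    exact h1.symm
  letI iQ : DistribMulAction Q V :=
    { smul := fun q v => Quotient.liftOn' q (fun g => g • v)
        fun a b h => hwd a b (QuotientGroup.leftRel_apply.1 h) v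
      one_smul := fun v => one_smul G v
      mul_smul := fun q r v => by
        induction q using QuotientGroup.induction_on
        induction r using QuotientGroup.induction_on
        exact mul_smul _ _ v
      smul_zero := fun q => by induction q using QuotientGroup.induction_on; exact smul_zero _
      smul_add := fun q v w => by
        induction q using QuotientGroup.induction_on; exact smul_add _ v w }
  have hfaith : FaithfulSMul Q V := ⟨fun {a b} h => by
    induction a using QuotientGroup.induction_on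
    induction b using QuotientGroup.induction_on
    refine QuotientGroup.eq.2 (MonoidHom.mem_ker.2 (Equiv.ext fun v => ?_))
    show ((_ : G)⁻¹ * _) • v = v
    rw [mul_smul, inv_smul_eq_iff]; exact (h v).symm⟩
  exact ⟨Q, inferInstance, inferInstance, iQ, hfaith, QuotientGroup.mk' f.ker,
    QuotientGroup.mk'_surjective _, fun _ _ => rfl⟩

theorem isIrr_of_hom {G Q V : Type} [Group G] [Group Q] [AddCommGroup V] [DistribMulAction G V]
    [DistribMulAction Q V] (f : G →* Q) (heq : ∀ (g : G) (v : V), g • v = f g • v)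
    (h : IsIrr G V) : IsIrr Q V :=
  ⟨h.1, fun U hU => h.2 U fun g v hv => heq g v ▸ hU (f g) v hv⟩

/-- A reducible completely reducible module splits. -/
theorem exists_split {G V : Type} [Group G] [AddCommGroup V] [DistribMulAction G V] [Nontrivial V]
    (hcr : IsCR G V) (hirr : ¬ IsIrr G V) :
    ∃ U W : AddSubgroup V, (∀ g : G, ∀ v ∈ U, g • v ∈ U) ∧ (∀ g : G, ∀ v ∈ W, g • v ∈ W) ∧
      U ⊓ W = ⊥ ∧ U ⊔ W = ⊤ ∧ U ≠ ⊥ ∧ W ≠ ⊥ := by
  unfold H35.OddBase.IsIrr at hirr
  push Not at hirr
  obtain ⟨U, hU, hU0, hU1⟩ := hirr inferInstance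
  obtain ⟨W, hW, hb, ht⟩ := hcr U hU
  exact ⟨U, W, hU, hW, hb, ht, hU0, fun h => hU1 (by rw [h, sup_bot_eq] at ht; exact ht)⟩

theorem IsCR.restrict' {G V : Type} [Group G] [AddCommGroup V] [DistribMulAction G V]
    (hcr : IsCR G V) (U : AddSubgroup V) [DistribMulAction G ↥U]
    (hcoe : ∀ (g : G) (u : ↥U), ((g • u : ↥U) : V) = g • (u : V)) : IsCR G ↥U := by
  have hU : ∀ g : G, ∀ v ∈ U, g • v ∈ U := fun g v hv => by
    have h := (g • (⟨v, hv⟩ : ↥U)).2
    rwa [hcoe] at h
  intro Y hY
  obtain ⟨Y', h1, h2, h3, h4⟩ := hcr.restrict U (Y.map U.subtype) hU (by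
    rintro g _ ⟨y, hy, rfl⟩; exact ⟨g • y, hY g y hy, hcoe g y⟩)
    (by rintro _ ⟨y, -, rfl⟩; exact y.2)
  refine ⟨Y'.comap U.subtype, fun g y hy => ?_, ?_, ?_⟩
  · show ((g • y : ↥U) : V) ∈ Y'
    rw [hcoe]; exact h1 g y.1 hy
  · refine (AddSubgroup.eq_bot_iff_forall _).2 fun y hy => Subtype.ext ?_
    exact AddSubgroup.mem_bot.1 (h3.le ⟨⟨y, hy.1, rfl⟩, hy.2⟩)
  · refine (AddSubgroup.eq_top_iff' _).2 fun y => ?_
    obtain ⟨_, ⟨a, ha, rfl⟩, b, hb, hab⟩ := AddSubgroup.mem_sup.1 (h4.symm.le y.2)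
    exact AddSubgroup.mem_sup.2 ⟨a, ha, ⟨b, h2 hb⟩, hb, Subtype.ext hab⟩

/-- Small stabilisers on irreducible modules give them on completely reducible ones. -/
theorem exists_smallStab_of_irr {G : Type} [Group G] {N d : ℕ}
    (h : ∀ (V : Type) [AddCommGroup V] [Finite V] [DistribMulAction G V],
      IsIrr G V → Nat.card V ∣ N → ∃ v : V, SmallStab G V d v)
    (n : ℕ) : ∀ (V : Type) [AddCommGroup V] [Finite V] [DistribMulAction G V],
      IsCR G V → Nat.card V ∣ N → Nat.card V = n → ∃ v : V, SmallStab G V d v := by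
  induction n using Nat.strong_induction_on with
  | _ n ih =>
    intro V _ _ _ hcr hdvd hn
    subst hn
    by_cases hirr : IsIrr G V
    · exact h V hirr hdvd
    cases subsingleton_or_nontrivial V with
    | inl hs => exact ⟨0, fun g _ x => Subsingleton.elim _ _⟩
    | inr hnt =>
      obtain ⟨U, W, hU, hW, hb, ht, hU0, hW0⟩ := exists_split hcr hirr
      have huniq : ∀ a a' b b' : V, a ∈ U → a' ∈ U → b ∈ W → b' ∈ W → a + b = a' + b' → a = a' ∧ b = b' := by
        intro a a' b b' ha ha' hb1 hb2 h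
        have h1 : a - a' = b' - b := by rw [sub_eq_sub_iff_add_eq_add, h, add_comm]
        have h2 : a - a' = 0 := AddSubgroup.mem_bot.1 (hb.le ⟨U.sub_mem ha ha', h1 ▸ W.sub_mem hb2 hb1⟩)
        rw [h2] at h1
        exact ⟨sub_eq_zero.1 h2, (sub_eq_zero.1 h1.symm).symm⟩
      have key : ∀ U W : AddSubgroup V, (∀ g : G, ∀ v ∈ U, g • v ∈ U) → U ⊓ W = ⊥ → W ≠ ⊥ →
          ∃ v ∈ U, ∀ g ∈ dIn (stabilizer G v) d, ∀ x ∈ U, g • x = x := by
        intro U W hU hb hW0
        letI : DistribMulAction G ↥U :=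
          { smul := fun g x => ⟨g • x.1, hU g x.1 x.2⟩
            one_smul := fun x => Subtype.ext (one_smul G x.1)
            mul_smul := fun g h x => Subtype.ext (mul_smul g h x.1)
            smul_zero := fun g => Subtype.ext (smul_zero g)
            smul_add := fun g x y => Subtype.ext (smul_add g x.1 y.1) }
        have hlt : Nat.card ↥U < Nat.card V := by
          obtain ⟨x, hx, hx0⟩ := W.bot_or_exists_ne_zero.resolve_left hW0
          refine Finite.card_subtype_lt (x := x) fun h => hx0 ?_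
          exact AddSubgroup.mem_bot.1 (hb.le ⟨h, hx⟩)
        obtain ⟨v, hv⟩ := ih _ hlt ↥U (IsCR.restrict' hcr U fun _ _ => rfl)
          ((AddSubgroup.card_addSubgroup_dvd_card U).trans hdvd) rfl
        refine ⟨v.1, v.2, fun g hg x hx => congrArg Subtype.val (hv g ?_ ⟨x, hx⟩)⟩
        exact dIn_mono (fun k hk => Subtype.ext (mem_stabilizer_iff.1 hk)) d hg
      obtain ⟨u, hu, k1⟩ := key U W hU hb hW0
      obtain ⟨w, hw, k2⟩ := key W U hW (inf_comm U W ▸ hb) hU0
      refine ⟨u + w, fun g hg x => ?_⟩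
      have hle : ∀ k ∈ stabilizer G (u + w), k • u = u ∧ k • w = w := fun k hk => by
        have h := mem_stabilizer_iff.1 hk
        rw [smul_add] at h
        exact huniq _ _ _ _ (hU k _ hu) hu (hW k _ hw) hw h
      obtain ⟨a, ha, b, hb', rfl⟩ := AddSubgroup.mem_sup.1 (ht.symm.le (AddSubgroup.mem_top x))
      rw [smul_add, k1 g (dIn_mono (fun k hk => mem_stabilizer_iff.2 (hle k hk).1) d hg) a ha,
        k2 g (dIn_mono (fun k hk => mem_stabilizer_iff.2 (hle k hk).2) d hg) b hb']

end H21.Orbit
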