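import Cfsg.Agent.H21.Orbit.Blocks
import Cfsg.Agent.H21.Orbit.Lemmas
import Cfsg.Agent.H35.OddBase.Main

/-!
Propagation of small stabilisers from primitive to completely reducible solvable linear groups.
-/

set_option autoImplicit false
set_option linter.style.haveILetI false

namespace H21.Orbit

open MulAction
open H27.Orbit
open H35.OddBase (IsCR IsIrr)

/-- Irreducible solvable linear groups are good. -/
theorem good_of_irr (hP : PrimColours) (hL : PrimLinear) (n : ℕ) :
    ∀ (G V : Type) [Group G] [Finite G] [AddCommGroup V] [Finite V] [DistribMulAction G V],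
      Group.IsSolvable G → IsIrr G V → Nat.card V = n → Good G V := by
  induction n using Nat.strong_induction_on with
  | _ n ih =>
    intro G V _ _ _ _ _ hs hirr hn
    subst hn
    classical
    haveI := hs
    obtain ⟨Q, _, _, _, _, f, hf, heq⟩ := exists_faithful G V
    have hsQ : Group.IsSolvable Q := Group.isSolvable_of_surjective (f := f) hf
    haveI := hsQ
    have hirrQ : IsIrr Q V := isIrr_of_hom f heq hirr
    refine Good.pullback f heq ?_
    by_cases hprim : H34.IsPrim (DistribMulAction.toAddMonoidEnd Q V)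
    · exact hL Q V hsQ hirrQ hprim
    unfold H34.IsPrim at hprim
    push Not at hprim
    obtain ⟨E₀, hE₀, hE₀2⟩ := hprim
    have hex : ∃ k, ∃ E : Finset (AddMonoid.End V),
        H34.IsDecomp (DistribMulAction.toAddMonoidEnd Q V) E ∧ 1 < E.card ∧ E.card = k :=
      ⟨_, E₀, hE₀, hE₀2, rfl⟩
    obtain ⟨E, hE, hE2, hEk⟩ := Nat.find_spec hex
    have hmin : ∀ E' : Finset (AddMonoid.End V),
        H34.IsDecomp (DistribMulAction.toAddMonoidEnd Q V) E' → 1 < E'.card → E.card ≤ E'.card :=
      fun E' h1 h2 => hEk ▸ Nat.find_min' hex ⟨E', h1, h2, rfl⟩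
    haveI : Nontrivial (Blk hE) := Fintype.one_lt_card_iff_nontrivial.1
      (lt_of_lt_of_eq hE2 (Fintype.card_coe E).symm)
    obtain ⟨h50, h52, hrest⟩ := hP Q (Blk hE) hsQ (blk_preprimitive hE hirrQ hmin)
    obtain ⟨H, W, _, _, _, hW, hlt, -, hglue⟩ := exists_part hE hirrQ hE2
    have hgood : ∀ c d, Spread c d ↥H W → ∀ k a, ColSpread k a c Q (Blk hE) → Spread k (a + d) Q V := by
      rintro c d ⟨t, h1, h2⟩ k a ⟨col, hc1, hc2⟩
      obtain ⟨D, hD1, hD2, -⟩ := hglue c d False t h1 h2 False.elim
      exact ⟨fun i => D (col i), fun i => hD2 _ a (hc1 i), fun i j g hg => hc2 i j g (hD1 g _ _ hg)⟩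
    rcases ih _ hlt ↥H W inferInstance hW rfl with h | h | h
    · exact Or.inl (hgood 5 9 h 5 0 h50)
    · exact Or.inl (hgood 3 7 h 5 2 h52)
    · rcases hrest with hc | hc
      · exact Or.inr (Or.inl (hgood 2 5 h 3 2 hc))
      · exact Or.inl (hgood 2 5 h 5 4 hc)

/-- A completely reducible solvable module has a vector with stabiliser of derived length nine. -/
theorem exists_nine (hP : PrimColours) (hL : PrimLinear) {G V : Type} [Group G] [Finite G]
    [AddCommGroup V] [Finite V] [DistribMulAction G V] (hs : Group.IsSolvable G) (hcr : IsCR G V) :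
    ∃ v : V, SmallStab G V 9 v :=
  exists_smallStab_of_irr (fun W _ _ _ hW _ =>
    Good.exists_smallStab (good_of_irr hP hL _ G W hs hW rfl)) _ V hcr dvd_rfl rfl

/-- Irreducible linear groups of odd order in odd characteristic. -/
theorem odd_of_irr (hO : PrimOdd) (n : ℕ) :
    ∀ (G V : Type) [Group G] [Finite G] [AddCommGroup V] [Finite V] [DistribMulAction G V],
      Odd (Nat.card G) → Odd (Nat.card V) → IsIrr G V → Nat.card V = n →
      ∃ v : V, v ≠ 0 ∧ SmallStab G V 1 v := by
  induction n using Nat.strong_induction_on with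
  | _ n ih =>
    intro G V _ _ _ _ _ hG hV hirr hn
    subst hn
    classical
    obtain ⟨Q, _, _, _, _, f, hf, heq⟩ := exists_faithful G V
    have hQ : Odd (Nat.card Q) := hG.of_dvd_nat (Subgroup.card_dvd_of_surjective f hf)
    have hirrQ : IsIrr Q V := isIrr_of_hom f heq hirr
    suffices ∃ v : V, v ≠ 0 ∧ SmallStab Q V 1 v by
      obtain ⟨v, hv0, hv⟩ := this
      exact ⟨v, hv0, SmallStab.pullback f id Function.injective_id heq hv⟩
    by_cases hprim : H34.IsPrim (DistribMulAction.toAddMonoidEnd Q V)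
    · exact hO Q V hQ hV hirrQ hprim
    unfold H34.IsPrim at hprim
    push Not at hprim
    obtain ⟨E, hE, hE2⟩ := hprim
    obtain ⟨H, W, _, _, _, hW, hlt, hdvd, hglue⟩ := exists_part hE hirrQ hE2
    have hH : Odd (Nat.card ↥H) := hQ.of_dvd_nat (Subgroup.card_subgroup_dvd_card H)
    have hWodd : Odd (Nat.card W) := hV.of_dvd_nat hdvd
    obtain ⟨w, hw0, hw⟩ := ih _ hlt ↥H W hH hWodd hW rfl
    have hneg : SmallStab ↥H W 1 (-w) := by
      intro g hg x
      refine hw g (dIn_mono (fun k hk => ?_) 1 hg) x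
      rw [mem_stabilizer_iff] at hk ⊢
      rwa [smul_neg, neg_inj] at hk
    have hno : ∀ h : ↥H, h • w ≠ -w := by
      intro h hh
      have h1 : h • w = w := H35.OddBase.smul_fix_of_sq_fix hH (by rw [hh, smul_neg, hh, neg_neg])
      rw [h1, ← add_eq_zero_iff_eq_neg, ← two_nsmul] at hh
      exact hw0 (AddMonoid.addOrderOf_eq_one_iff.1 (Nat.eq_one_of_dvd_coprimes
        ((Nat.coprime_two_left).2 hWodd) (addOrderOf_dvd_of_nsmul_eq_zero hh) (addOrderOf_dvd_natCard w)))
    obtain ⟨D, -, hD2, hD3⟩ := hglue 2 1 True ![w, -w]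
      (fun i => by fin_cases i; exacts [hw, hneg])
      (fun i j h hij => by
        fin_cases i <;> fin_cases j
        · rfl
        · exact (hno h hij).elim
        · exact (hno h (neg_eq_iff_eq_neg.1 ((smul_neg h w).symm.trans hij))).elim
        · rfl)
      (fun _ i => by fin_cases i <;> simp [hw0])
    obtain ⟨S, hS⟩ := (H35.OddBase.upTo (Nat.card (Blk hE))).2 Q (Blk hE) hQ le_rfl
    refine ⟨D fun ω => if ω ∈ S then 1 else 0, hD3 trivial _, hD2 _ 0 fun g hg ω => ?_⟩
    rw [dIn_zero] at hg
    refine hS g (fun x => ?_) ω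
    have h := hg x
    by_cases hx : x ∈ S <;> by_cases hgx : g • x ∈ S <;> simp_all

/-- A completely reducible module of odd order for a group of odd order has a vector with
abelian stabiliser. -/
theorem exists_one (hO : PrimOdd) {G V : Type} [Group G] [Finite G] [AddCommGroup V] [Finite V]
    [DistribMulAction G V] (hG : Odd (Nat.card G)) (hV : Odd (Nat.card V)) (hcr : IsCR G V) :
    ∃ v : V, SmallStab G V 1 v :=
  exists_smallStab_of_irr (fun W _ _ _ hW hdvd =>
    (odd_of_irr hO _ G W hG (hV.of_dvd_nat hdvd) hW rfl).imp fun _ h => h.2) _ V hcr dvd_rfl rfl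

end H21.Orbit
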