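import Cfsg.Agent.H21.Orbit.PrimOddLemmas
import Cfsg.Agent.H21.Base3.FrameExists
import Cfsg.Agent.H27.Orbit.Derived
import Cfsg.Agent.H35.OddBase.Main

/-!
Primitive linear groups of odd order in odd characteristic: a vector with trivial stabiliser
inside the kernel of the field action.
-/

set_option autoImplicit false
set_option linter.style.haveILetI false
set_option linter.unusedSectionVars false
set_option maxHeartbeats 1000000

namespace H21.Orbit

open Module H35.OddBase
open scoped commutatorElement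

theorem exists_free_of_frame {G V K : Type} [Group G] [Finite G] [AddCommGroup V] [Finite V]
    [DistribMulAction G V] [FaithfulSMul G V] [Field K] [Finite K] [Module K V] [Nontrivial V]
    (S : Frame G V K) [Group.IsSolvable G] (hodd : Odd (Nat.card G)) (hVodd : Odd (Nat.card V)) :
    ∃ v : V, v ≠ 0 ∧ ∀ g ∈ S.σ.ker, g • v = v → g = 1 := by
  classical
  haveI := S.normal
  haveI : Fintype ↥S.A := Fintype.ofFinite _
  obtain ⟨B, hBn, hAB, hBC, hcomm, hmax⟩ := S.exists_B
  haveI := hBn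
  haveI : IsCyclic ↥S.A := isCyclic_of_subgroup_isDomain S.ι S.ι_injective
  letI : CommGroup ↥S.A := IsCyclic.commGroup
  set A' : Subgroup ↥B := S.A.subgroupOf B with hA'
  let N := ↥B ⧸ A'
  letI : CommGroup N :=
    { (inferInstance : Group N) with
      mul_comm := fun a b => by
        obtain ⟨a, rfl⟩ := QuotientGroup.mk_surjective a
        obtain ⟨b, rfl⟩ := QuotientGroup.mk_surjective b
        refine QuotientGroup.eq.2 ?_
        show ((a * b)⁻¹ * (b * a) : G) ∈ S.A
        have : ((a * b)⁻¹ * (b * a) : G) = ⁅(b : G)⁻¹, (a : G)⁻¹⁆ := by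
          simp only [commutatorElement_def, Subgroup.coe_mul, Subgroup.coe_inv]; group
        rw [this]
        exact hcomm _ (B.inv_mem b.2) _ (B.inv_mem a.2) }
  haveI : Finite N := Quotient.finite _
  -- the commutator pairing
  have hcentral : ∀ (a : G), a ∈ S.A → ∀ g ∈ B, g * a = a * g := fun a ha g hg =>
    S.commute_of_mem_ker (hBC hg) ha
  let χ : ↥B → ↥B →* ↥S.A := fun b =>
    { toFun := fun c => ⟨⁅(b : G), (c : G)⁆, hcomm _ b.2 _ c.2⟩
      map_one' := Subtype.ext (commutatorElement_one_right _)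
      map_mul' := fun c d => Subtype.ext (by
        show ⁅(b : G), (c : G) * d⁆ = ⁅(b : G), (c : G)⁆ * ⁅(b : G), (d : G)⁆
        have h1 : ⁅(b : G), (c : G) * d⁆ = ⁅(b : G), (c : G)⁆ * ((c : G) * ⁅(b : G), (d : G)⁆ * (c : G)⁻¹) := by
          simp only [commutatorElement_def]; group
        rw [h1, hcentral _ (hcomm _ b.2 _ d.2) _ c.2, mul_assoc _ (c : G), mul_inv_cancel, mul_one]) }
  have hχmul : ∀ a b c : ↥B, χ (a * b) c = χ a c * χ b c := fun a b c => Subtype.ext (by
    show ⁅(a : G) * b, (c : G)⁆ = ⁅(a : G), (c : G)⁆ * ⁅(b : G), (c : G)⁆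
    have h1 : ⁅(a : G) * b, (c : G)⁆ = (a : G) * ⁅(b : G), (c : G)⁆ * (a : G)⁻¹ * ⁅(a : G), (c : G)⁆ := by
      simp only [commutatorElement_def]; group
    rw [h1, hcentral _ (hcomm _ b.2 _ c.2) _ a.2, mul_assoc _ (a : G), mul_inv_cancel, mul_one]
    exact hcentral _ (hcomm _ a.2 _ c.2) _ (hAB.trans le_rfl (hcomm _ b.2 _ c.2)))
  have hker : ∀ b : ↥B, A' ≤ (χ b).ker := fun b c hc => Subtype.ext (by
    show ⁅(b : G), (c : G)⁆ = 1
    exact commutatorElement_eq_one_iff_mul_comm.2 (hcentral _ hc _ b.2))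
  let χ' : ↥B →* (N →* ↥S.A) :=
    { toFun := fun b => QuotientGroup.lift A' (χ b) (hker b)
      map_one' := MonoidHom.ext fun c => by
        obtain ⟨c, rfl⟩ := QuotientGroup.mk_surjective c
        exact Subtype.ext (commutatorElement_one_left _)
      map_mul' := fun a b => MonoidHom.ext fun c => by
        obtain ⟨c, rfl⟩ := QuotientGroup.mk_surjective c
        exact hχmul a b c }
  have hker' : A' ≤ χ'.ker := fun b hb => MonoidHom.ext fun c => by
    obtain ⟨c, rfl⟩ := QuotientGroup.mk_surjective c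
    exact Subtype.ext (commutatorElement_eq_one_iff_mul_comm.2 (hcentral _ hb _ c.2).symm)
  let P : AltPairing N ↥S.A :=
    { β := QuotientGroup.lift A' χ' hker'
      alt := fun x => by
        obtain ⟨b, rfl⟩ := QuotientGroup.mk_surjective x
        exact Subtype.ext (commutatorElement_self _)
      nondeg := fun x hx => by
        obtain ⟨b, rfl⟩ := QuotientGroup.mk_surjective x
        refine (QuotientGroup.eq_one_iff b).2 (S.center_le hBn hAB hBC b.2 fun y hy => ?_)
        exact commutatorElement_eq_one_iff_commute.1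
          (congrArg Subtype.val (hx (QuotientGroup.mk ⟨y, hy⟩))) }
  have hP : ∀ b c : ↥B, ((P.β (QuotientGroup.mk b) (QuotientGroup.mk c) : ↥S.A) : G) = ⁅(b : G), (c : G)⁆ :=
    fun b c => rfl
  -- elements of the kernel acting trivially on `B / A`
  have hD : ∀ g ∈ S.σ.ker, (∀ b ∈ B, ⁅g, b⁆ ∈ S.A) → g ∈ B := by
    intro g hg hgb
    let ψ : ↥B →* ↥S.A :=
      { toFun := fun c => ⟨⁅g, (c : G)⁆, hgb _ c.2⟩
        map_one' := Subtype.ext (commutatorElement_one_right _)
        map_mul' := fun c d => Subtype.ext (by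
          show ⁅g, (c : G) * d⁆ = ⁅g, (c : G)⁆ * ⁅g, (d : G)⁆
          have h1 : ⁅g, (c : G) * d⁆ = ⁅g, (c : G)⁆ * ((c : G) * ⁅g, (d : G)⁆ * (c : G)⁻¹) := by
            simp only [commutatorElement_def]; group
          rw [h1, hcentral _ (hgb _ d.2) _ c.2, mul_assoc _ (c : G), mul_inv_cancel, mul_one]) }
    have hψ : A' ≤ ψ.ker := fun c hc => Subtype.ext
      (commutatorElement_eq_one_iff_mul_comm.2 (S.commute_of_mem_ker hg hc))
    obtain ⟨x, hx⟩ := P.surjective S.ι_injective (QuotientGroup.lift A' ψ hψ)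
    obtain ⟨b, rfl⟩ := QuotientGroup.mk_surjective x
    have hbg : ∀ y ∈ B, Commute ((b : G)⁻¹ * g) y := fun y hy => by
      have h1 : ⁅(b : G), y⁆ = ⁅g, y⁆ := by
        have h0 := congrArg Subtype.val (DFunLike.congr_fun hx (QuotientGroup.mk (⟨y, hy⟩ : ↥B)))
        exact h0
      rw [← commutatorElement_eq_one_iff_commute]
      have : ⁅(b : G)⁻¹ * g, y⁆ = (b : G)⁻¹ * ⁅g, y⁆ * ⁅(b : G), y⁆⁻¹ * (b : G) := by
        simp only [commutatorElement_def]; group
      rw [this, h1, mul_assoc _ ⁅g, y⁆, mul_inv_cancel, mul_one, inv_mul_cancel]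
    have := hAB (S.centralizer_le hBn hAB hBC hcomm hmax
      (S.σ.ker.mul_mem (S.σ.ker.inv_mem (hBC b.2)) hg) hbg)
    simpa using B.mul_mem b.2 this
  -- fixed spaces
  have hfixB : ∀ x : ↥S.σ.ker, (x : G) ∈ B → (x : G) ∉ S.A →
      3 * finrank K (S.fixSpace x) ≤ finrank K V := by
    intro x hxB hxA
    obtain ⟨y, hy, hne⟩ : ∃ y ∈ B, ⁅(x : G), y⁆ ≠ 1 := by
      by_contra h
      push Not at h
      exact hxA (S.center_le hBn hAB hBC hxB fun y hy => commutatorElement_eq_one_iff_commute.1 (h y hy))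
    exact S.three_fix_le hodd (y := ⟨y, hBC hy⟩) (c := ⟨_, hcomm _ hxB _ hy⟩)
      (fun h => hne (congrArg Subtype.val h)) rfl
  have hfix : ∀ x : ↥S.σ.ker, (x : G) ∉ S.A → 3 * finrank K (S.fixSpace x) ≤ 2 * finrank K V := by
    intro x hxA
    by_cases hxB : (x : G) ∈ B
    · have := hfixB x hxB hxA; omega
    obtain ⟨b, hb, hne⟩ : ∃ b ∈ B, ⁅(x : G), b⁆ ∉ S.A := by
      by_contra h
      push Not at h
      exact hxB (hD x x.2 h)
    have hh : ⁅(x : G), b⁆ ∈ B := by
      rw [commutatorElement_def]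
      exact B.mul_mem (hBn.conj_mem b hb x) (B.inv_mem hb)
    exact S.three_fix_le_two_mul (b := ⟨b, hBC hb⟩) (h := ⟨_, hBC hh⟩) (hfixB ⟨_, hBC hh⟩ hh hne) rfl
  by_cases hN1 : Subsingleton N
  · have hBA : B ≤ S.A := fun b hb => by
      have := (QuotientGroup.eq_one_iff (⟨b, hb⟩ : ↥B)).1 (hN1.elim (QuotientGroup.mk _ : N) 1)
      exact this
    have hCA : ∀ g ∈ S.σ.ker, g ∈ S.A := fun g hg =>
      S.centralizer_le hBn hAB hBC hcomm hmax hg fun y hy => S.commute_of_mem_ker hg (hBA hy)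
    obtain ⟨v, hv⟩ := exists_ne (0 : V)
    refine ⟨v, hv, fun g hg hgv => ?_⟩
    have hι : S.ι ⟨g, hCA g hg⟩ = 1 :=
      smul_left_injective K hv ((S.scal ⟨g, hCA g hg⟩ v).symm.trans (hgv.trans (one_smul K v).symm))
    exact eq_of_smul_eq_smul fun x : V => by rw [S.scal ⟨g, hCA g hg⟩, hι, one_smul, one_smul]
  -- the dimension and the order of the section
  set d := finrank K V with hd
  set Q := Nat.card K with hQdef
  let T : N → Module.End K V := fun x => S.toEnd ⟨(x.out : ↥B), hBC x.out.2⟩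
  have hsd : Nat.card N ≤ d * d := by
    refine P.card_le_finrank_sq S.ι_injective T (fun x y => LinearMap.ext fun v => ?_) fun x => ?_
    · show ((x.out : ↥B) : G) • ((y.out : ↥B) : G) • v =
        S.ι (P.β x y) • ((y.out : ↥B) : G) • ((x.out : ↥B) : G) • v
      have hβ : ((P.β x y : ↥S.A) : G) = ⁅((x.out : ↥B) : G), ((y.out : ↥B) : G)⁆ := by
        conv_lhs => rw [← QuotientGroup.out_eq' x, ← QuotientGroup.out_eq' y]
        exact hP _ _
      rw [← S.scal, hβ, ← mul_smul, ← mul_smul, ← mul_smul]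
      congr 1
      rw [commutatorElement_def]; group
    · exact IsUnit.map S.toEnd (Group.isUnit _)
  obtain ⟨e, he⟩ := AltPairing.exists_sq (A := ↥S.A) _ N rfl P
  haveI : Nontrivial N := not_subsingleton_iff_nontrivial.1 hN1
  have hNodd : Odd (Nat.card N) :=
    (hodd.of_dvd_nat (Subgroup.card_subgroup_dvd_card B)).of_dvd_nat (Subgroup.card_quotient_dvd_card A')
  have heodd : Odd e := by rw [he, Nat.odd_pow_iff two_ne_zero] at hNodd; exact hNodd
  have he3 : 3 ≤ e := by
    have : 1 < e ^ 2 := he ▸ Finite.one_lt_card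
    obtain ⟨j, rfl⟩ := heodd
    rcases j with _ | j
    · norm_num at this
    · omega
  have hed : e ≤ d := by
    rw [he, ← pow_two] at hsd
    exact (Nat.pow_le_pow_iff_left two_ne_zero).1 hsd
  -- the action on the section
  let conjB : G →* MulAut ↥B := MulAut.conjNormal
  have hA'inv : ∀ g : G, A' ≤ A'.comap (conjB g).toMonoidHom := fun g c hc => by
    show ((conjB g c : ↥B) : G) ∈ S.A
    rw [MulAut.conjNormal_apply]
    exact S.normal.conj_mem _ hc g
  let actN : G → (N →* N) := fun g => QuotientGroup.map A' A' (conjB g).toMonoidHom (hA'inv g)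
  letI : MulDistribMulAction G N :=
    { smul := fun g x => actN g x
      one_smul := fun x => by
        obtain ⟨b, rfl⟩ := QuotientGroup.mk_surjective x
        show (QuotientGroup.mk (conjB 1 b) : N) = _
        rw [map_one]; rfl
      mul_smul := fun g h x => by
        obtain ⟨b, rfl⟩ := QuotientGroup.mk_surjective x
        show (QuotientGroup.mk (conjB (g * h) b) : N) = _
        rw [map_mul]; rfl
      smul_mul := fun g x y => map_mul (actN g) x y
      smul_one := fun g => map_one (actN g) }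
  have hsm : ∀ (g : G) (b : ↥B), g • (QuotientGroup.mk b : N) = QuotientGroup.mk (conjB g b) :=
    fun g b => rfl
  have hequiv : ∀ (g : G) (x y : N), ((P.β (g • x) (g • y) : ↥S.A) : G) = g * (P.β x y : G) * g⁻¹ := by
    intro g x y
    obtain ⟨b, rfl⟩ := QuotientGroup.mk_surjective x
    obtain ⟨c, rfl⟩ := QuotientGroup.mk_surjective y
    rw [hsm, hsm, hP, hP, MulAut.conjNormal_apply, MulAut.conjNormal_apply]
    simp only [commutatorElement_def]; group
  let ψ : G →* MulAut N := MulDistribMulAction.toMulAut G N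
  let X : Subgroup (MulAut N) := ψ.range
  letI := additiveAct ↥X N
  haveI : Finite ↥X := Finite.of_surjective _ ψ.rangeRestrict_surjective
  have hXodd : Odd (Nat.card ↥X) := hodd.of_dvd_nat (Subgroup.card_range_dvd _)
  haveI : FaithfulSMul ↥X (Additive N) := ⟨fun {a b} h => Subtype.ext (MulEquiv.ext fun x =>
    congrArg Additive.toMul (h (Additive.ofMul x)))⟩
  -- the section as a module for the whole group
  let ψ : G →* MulAut N := MulDistribMulAction.toMulAut G N
  let X : Subgroup (MulAut N) := ψ.range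
  letI := additiveAct ↥X N
  haveI : Finite ↥X := Finite.of_surjective _ ψ.rangeRestrict_surjective
  have hXodd : Odd (Nat.card ↥X) := hodd.of_dvd_nat (Subgroup.card_range_dvd _)
  haveI : FaithfulSMul ↥X (Additive N) := ⟨fun {a b} h => Subtype.ext (MulEquiv.ext fun x =>
    congrArg Additive.toMul (h (Additive.ofMul x)))⟩
  have hperp : ∀ U' : Subgroup N, (∀ (g : G), ∀ x ∈ U', g • x ∈ U') →
      ∀ (g : G), ∀ x ∈ P.perp U', g • x ∈ P.perp U' := by
    intro U' hU' g x hx w hw
    have h1 := hx (g⁻¹ • w) (hU' g⁻¹ w hw)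
    apply Subtype.ext
    rw [← smul_inv_smul g w, hequiv, h1]
    simp
  have hdisj : ∀ U' : Subgroup N, (∀ (g : G), ∀ x ∈ U', g • x ∈ U') →
      ∀ x ∈ U', x ∈ P.perp U' → x = 1 := by
    intro U' hU'
    -- the preimage of the intersection is abelian and normal
    let Z : Subgroup G :=
      { carrier := {g | ∃ h : g ∈ B, (QuotientGroup.mk ⟨g, h⟩ : N) ∈ U' ⊓ P.perp U'}
        one_mem' := ⟨B.one_mem, (U' ⊓ P.perp U').one_mem⟩
        mul_mem' := fun ⟨ha, ha'⟩ ⟨hb, hb'⟩ => ⟨B.mul_mem ha hb, (U' ⊓ P.perp U').mul_mem ha' hb'⟩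
        inv_mem' := fun ⟨ha, ha'⟩ => ⟨B.inv_mem ha, (U' ⊓ P.perp U').inv_mem ha'⟩ }
    have hZn : Z.Normal := by
      refine ⟨fun a hamem g => ?_⟩
      obtain ⟨ha, ha'⟩ := hamem
      refine ⟨hBn.conj_mem a ha g, ?_⟩
      have heq : (QuotientGroup.mk ⟨g * a * g⁻¹, hBn.conj_mem a ha g⟩ : N) =
          g • (QuotientGroup.mk ⟨a, ha⟩ : N) := by
        rw [hsm]
        exact congrArg _ (Subtype.ext (MulAut.conjNormal_apply g (⟨a, ha⟩ : ↥B)).symm)
      rw [heq]; exact ⟨hU' g _ ha'.1, hperp U' hU' g _ ha'.2⟩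
    have hAZ : S.A ≤ Z := fun a ha => ⟨hAB ha, by
      rw [(QuotientGroup.eq_one_iff (⟨a, hAB ha⟩ : ↥B)).2 ha]; exact Subgroup.one_mem _⟩
    have hZeq := S.maximal Z hZn hAZ ⟨⟨fun a b => Subtype.ext (commutatorElement_eq_one_iff_mul_comm.1 (by
      obtain ⟨ha, ha'⟩ := a.2
      obtain ⟨hb, hb'⟩ := b.2
      rw [← hP ⟨a, ha⟩ ⟨b, hb⟩]
      exact congrArg Subtype.val (ha'.2 _ hb'.1)))⟩⟩
    intro x hx hx'
    obtain ⟨b, rfl⟩ := QuotientGroup.mk_surjective x
    exact (QuotientGroup.eq_one_iff b).2 (hZeq.le (⟨b.2, hx, hx'⟩ : (b : G) ∈ Z))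
  have hcr : IsCR ↥X (Additive N) := by
    intro U hU
    let U' : Subgroup N := AddSubgroup.toSubgroup' U
    have hU' : ∀ (g : G), ∀ x ∈ U', g • x ∈ U' := fun g x hx =>
      hU ⟨ψ g, ⟨g, rfl⟩⟩ (Additive.ofMul x) hx
    refine ⟨Subgroup.toAddSubgroup (P.perp U'), ?_, ?_, ?_⟩
    · rintro ⟨_, g, rfl⟩ v hv
      exact hperp U' hU' g v.toMul hv
    · exact (AddSubgroup.eq_bot_iff_forall _).2 fun x hx =>
        congrArg Additive.ofMul (hdisj U' hU' x.toMul hx.1 hx.2)
    · have hinj : Function.Injective fun t : ↥U' × ↥(P.perp U') => (t.1 : N) * t.2 := by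
        rintro ⟨a, b⟩ ⟨a', b'⟩ h
        simp only at h
        have h1 : (a'.1)⁻¹ * a.1 = b'.1 * b.1⁻¹ := by
          rw [inv_mul_eq_iff_eq_mul, ← mul_assoc, eq_mul_inv_iff_mul_eq]; exact h
        have h2 := hdisj U' hU' _ (U'.mul_mem (U'.inv_mem a'.2) a.2)
          (h1 ▸ (P.perp U').mul_mem b'.2 ((P.perp U').inv_mem b.2))
        have ha : a = a' := Subtype.ext (inv_mul_eq_one.1 h2).symm
        subst ha
        exact Prod.ext rfl (Subtype.ext (mul_left_cancel h))
      have hcard : Nat.card N ≤ Nat.card (↥U' × ↥(P.perp U')) := by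
        rw [Nat.card_prod, ← Subgroup.index_mul_card (P.perp U')]
        exact Nat.mul_le_mul_right _ (P.index_perp_le S.ι_injective U')
      have hsurj := ((Nat.bijective_iff_injective_and_card _).2
        ⟨hinj, le_antisymm (Nat.card_le_card_of_injective _ hinj) hcard⟩).2
      refine (AddSubgroup.eq_top_iff' _).2 fun x => ?_
      obtain ⟨⟨a, b⟩, hab⟩ := hsurj x.toMul
      rw [show x = Additive.ofMul (a : N) + Additive.ofMul (b : N) from congrArg Additive.ofMul hab.symm]
      exact AddSubgroup.add_mem_sup a.2 b.2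
  have hAdd : Nat.card (Additive N) = e ^ 2 := (Nat.card_congr Additive.toMul).trans he
  haveI : Nontrivial N := not_subsingleton_iff_nontrivial.1 hN1
  have hNodd : Odd (Nat.card N) :=
    (hodd.of_dvd_nat (Subgroup.card_subgroup_dvd_card B)).of_dvd_nat (Subgroup.card_quotient_dvd_card A')
  have heodd : Odd e := by rw [he, Nat.odd_pow_iff two_ne_zero] at hNodd; exact hNodd
  have he3 : 3 ≤ e := by
    have : 1 < e ^ 2 := he ▸ Finite.one_lt_card
    obtain ⟨j, rfl⟩ := heodd
    rcases j with _ | j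
    · norm_num at this
    · omega
  -- a section of order nine has an invariant line
  have he5 : 5 ≤ e := by
    by_contra h5
    have he' : e = 3 := by obtain ⟨j, hj⟩ := id heodd; omega
    have hX1 := bound_nine hXodd hcr (by rw [hAdd, he']; norm_num)
    haveI : Subsingleton ↥X := (Nat.card_eq_one_iff_unique.1 hX1).1
    obtain ⟨u, hu⟩ := exists_ne (1 : N)
    have htriv : ∀ (g : G) (x : N), g • x = x := fun g x => by
      have h1 : (⟨ψ g, g, rfl⟩ : ↥X) = 1 := Subsingleton.elim _ _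
      exact DFunLike.congr_fun (congrArg Subtype.val h1) x
    refine hu (hdisj (Subgroup.zpowers u) (fun g x hx => by rwa [htriv]) u (Subgroup.mem_zpowers u) ?_)
    intro w hw
    obtain ⟨i, rfl⟩ := Subgroup.mem_zpowers_iff.1 hw
    rw [map_zpow, P.alt, one_zpow]
  have hsX : Group.IsSolvable ↥X := Group.isSolvable_of_surjective ψ.rangeRestrict_surjective
  have hAoddN : Odd (Nat.card (Additive N)) := by rw [hAdd, ← he]; exact hNodd
  -- the image of the kernel of the field action
  let Y : Subgroup ↥X := S.σ.ker.map ψ.rangeRestrict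
  haveI : Y.Normal := Subgroup.Normal.map inferInstance _ ψ.rangeRestrict_surjective
  have hindex : S.A.relIndex S.σ.ker ≤ e ^ 2 * Nat.card ↥Y := by
    rw [← Subgroup.relIndex_mul_relIndex S.A B S.σ.ker hAB hBC, show S.A.relIndex B = e ^ 2 from he]
    refine Nat.mul_le_mul_left _ ?_
    have hle : ψ.ker ⊓ S.σ.ker ≤ B := by
      rintro g ⟨hg, hgC⟩
      refine hD g hgC fun b hb => ?_
      have hgb : g • (QuotientGroup.mk ⟨b, hb⟩ : N) = QuotientGroup.mk ⟨b, hb⟩ := by
        exact DFunLike.congr_fun (MonoidHom.mem_ker.1 hg) (QuotientGroup.mk ⟨b, hb⟩ : N)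
      rw [hsm, QuotientGroup.eq, Subgroup.mem_subgroupOf] at hgb
      simp only [Subgroup.coe_mul, Subgroup.coe_inv, MulAut.conjNormal_apply, conjB] at hgb
      rw [show ⁅g, b⁆ = b * ((g * b * g⁻¹)⁻¹ * b)⁻¹ * b⁻¹ by rw [commutatorElement_def]; group]
      exact S.normal.conj_mem _ (S.A.inv_mem hgb) b
    calc B.relIndex S.σ.ker ≤ (ψ.ker ⊓ S.σ.ker).relIndex S.σ.ker :=
          Subgroup.relIndex_le_of_le_left hle Subgroup.index_ne_zero_of_finite
      _ = Nat.card (S.σ.ker.map ψ) := by rw [Subgroup.inf_relIndex_right, Subgroup.relIndex_ker]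
      _ ≤ Nat.card ↥Y := Nat.card_le_card_of_injective (fun t => ⟨⟨t.1, by
            obtain ⟨g, -, hg⟩ := t.2; exact ⟨g, hg⟩⟩, by
            obtain ⟨g, hgk, hg⟩ := t.2; exact ⟨g, hgk, Subtype.ext hg⟩⟩)
            fun a b h => Subtype.ext (congrArg (fun t : ↥Y => ((t : ↥X) : MulAut N)) h :)
  have hyx : Nat.card ↥Y ∣ Nat.card ↥X := Subgroup.card_subgroup_dvd_card Y
  have hy : 8 * Nat.card ↥Y ≤ e ^ 4 := by
    have hle := Nat.le_of_dvd Nat.card_pos hyx
    rcases eight_mul_card_le hXodd hAoddN ((upTo _).1 ↥X (Additive N) hXodd hcr le_rfl) with h | h <;>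
      rw [hAdd] at h
    · calc _ ≤ 8 * Nat.card ↥X := Nat.mul_le_mul_left _ hle
        _ ≤ e ^ 2 * e ^ 2 := h
        _ = _ := by ring
    · calc _ ≤ 8 * Nat.card ↥X := Nat.mul_le_mul_left _ hle
        _ ≤ 8 * e ^ 2 := Nat.mul_le_mul_left _ h
        _ ≤ (e * e) * e ^ 2 := Nat.mul_le_mul_right _
              ((by norm_num : 8 ≤ 3 * 3).trans (Nat.mul_le_mul he3 he3))
        _ = _ := by ring
  have hnormal : ∀ (p k a m : ℕ), p.Prime → Nat.card (Additive N) = p ^ k → 0 < a → ¬ p ∣ m →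
      (∀ n : ℕ, n ∣ m → n % p = 1 → n = 1) → Nat.card ↥Y ≠ p ^ a * m :=
    fun p k a m hp hN ha hm hone hY => by
      haveI := Fact.mk hp
      exact not_normal_sylow hcr hN Y ha hm hY hone
  have h5 : e = 5 → Nat.card ↥Y ≤ 3 := fun h =>
    card_le_three hXodd hcr (by rw [hAdd, h]) Y
  have h9 : e = 9 → Nat.card ↥Y ≤ 5 := fun h => by
    refine card_le_five hXodd hsX hcr (by rw [hAdd, h]) Y fun h13 => ?_
    haveI : Fact (Nat.Prime 13) := ⟨by norm_num⟩
    obtain ⟨⟨t, ht⟩, hto⟩ := exists_prime_orderOf_dvd_card' (G := ↥Y) 13 h13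
    obtain ⟨g, hg, rfl⟩ := ht
    refine no_thirteen P (t := ψ g) ?_ (by rw [he, h]) (fun x => ?_) fun x y => ?_
    · rw [← hto, ← orderOf_injective Y.subtype Subtype.val_injective,
        ← orderOf_injective X.subtype Subtype.val_injective]
      rfl
    · haveI : Fact (Nat.Prime 3) := ⟨Nat.prime_three⟩
      exact congrArg Additive.toMul
        (hcr.exponent (p := 3) (k := 4) (by rw [hAdd, h]; norm_num) (Additive.ofMul x))
    · apply Subtype.ext
      show ((P.β (g • x) (g • y) : ↥S.A) : G) = _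
      rw [hequiv, S.commute_of_mem_ker hg (P.β x y).2, mul_inv_cancel_right]
  have hKodd : Odd Q := by
    have h := hVodd
    rw [Module.natCard_eq_pow_finrank (K := K), ← hd, ← hQdef] at h
    exact (Nat.odd_pow_iff (by omega)).1 h
  have hQ2 : 2 ≤ Q := Finite.one_lt_card
  have hQ3 : 3 ≤ Q := by obtain ⟨j, hj⟩ := hKodd; omega
  have hroot : ∀ r : ℕ, r.Prime → r ∣ e → r ∣ Q - 1 := by
    intro r hr hre
    haveI := Fact.mk hr
    obtain ⟨x, hx⟩ := exists_prime_orderOf_dvd_card' (G := N) r (he ▸ dvd_pow hre two_ne_zero)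
    obtain ⟨y, hy⟩ : ∃ y, P.β x y ≠ 1 := by
      by_contra h
      push Not at h
      rw [P.nondeg x h, orderOf_one] at hx
      exact hr.one_lt.ne hx
    have ho : orderOf (P.β x y) = r := orderOf_eq_prime
      ((P.β_pow_eq_one_iff x r).2 (hx ▸ pow_orderOf_eq_one x) y) hy
    refine (ho ▸ orderOf_dvd_natCard (P.β x y)).trans ?_
    have hinj : Function.Injective S.ι.toHomUnits := fun a b h => S.ι_injective (congrArg Units.val h)
    have hu : Nat.card Kˣ = Q - 1 := Nat.card_units K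
    rw [← hu, Nat.card_congr (MonoidHom.ofInjective hinj).toEquiv]
    exact Subgroup.card_subgroup_dvd_card _
  refine exists_free S hodd (2 * d / 3) (by omega) (by omega) le_rfl hQ3 hfix ?_
  exact odd_count heodd he5 hKodd hQ2 hroot hed hindex hy h5
    (fun h => (Nat.le_of_dvd Nat.card_pos hyx).trans (bound_fortyNine hXodd hcr (by rw [hAdd, h]; norm_num))) h9

/-- Primitive groups of odd order in odd characteristic. -/
theorem primOdd : H27.Orbit.PrimOdd := by
  intro G V _ _ _ _ _ _ hG hV hirr hprim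
  haveI : Group.IsSolvable G := H16.FT.oddOrder hG
  haveI := hirr.1
  obtain ⟨K, _, _, _, ⟨S⟩⟩ := H21.Base3.exists_frame hirr hprim
  obtain ⟨v, hv0, hv⟩ := exists_free_of_frame S hG hV
  refine ⟨v, hv0, fun g hg x => ?_⟩
  have hle : H27.Orbit.dIn (MulAction.stabilizer G v) 1 ≤ S.σ.ker := by
    rw [H27.Orbit.dIn_succ, H27.Orbit.dIn_zero, Subgroup.commutator_le]
    intro a _ b _
    rw [MonoidHom.mem_ker, map_commutatorElement, commutatorElement_eq_one_iff_mul_comm]
    exact H27.Orbit.ringAut_comm _ _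
  rw [hv g (hle hg) (MulAction.mem_stabilizer_iff.1 (H27.Orbit.dIn_le _ _ hg)), one_smul]

end H21.Orbit
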