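import Cfsg.Agent.H35.OddBase.Primitive

/-!
Counting and small bounds for primitive linear groups of odd order in odd characteristic.
-/

set_option autoImplicit false
set_option linter.style.haveILetI false
set_option linter.unusedSectionVars false

namespace H21.Orbit

open Module MulAction
open H35.OddBase (Frame IsCR HasPair)

/-- The lower bound for the field size coming from a prime divisor. -/
theorem two_mul_add_one_le {Q m : ℕ} (hQ : Odd Q) (hQ1 : 2 ≤ Q) (hm : Odd m) (h : m ∣ Q - 1) :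
    2 * m + 1 ≤ Q := by
  have h2 : 2 ∣ Q - 1 := by obtain ⟨j, rfl⟩ := hQ; exact ⟨j, by omega⟩
  have := Nat.le_of_dvd (by omega) (Nat.Coprime.mul_dvd_of_dvd_of_dvd (Nat.coprime_two_left.2 hm) h2 h)
  omega

/-- The numerical content of the count. -/
theorem odd_count {Q e d M y : ℕ} (he : Odd e) (he5 : 5 ≤ e) (hQo : Odd Q) (hQ2 : 2 ≤ Q)
    (hroot : ∀ r : ℕ, r.Prime → r ∣ e → r ∣ Q - 1) (hd : e ≤ d) (hM : M ≤ e ^ 2 * y)
    (hy : 8 * y ≤ e ^ 4) (h5 : e = 5 → y ≤ 3) (h7 : e = 7 → y ≤ 63) (h9 : e = 9 → y ≤ 5) :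
    d * M ≤ 2 * (2 * d / 3) * Q ^ (d - 2 * d / 3) := by
  have hrest : ∀ m : ℕ, Odd m → m ∣ Q - 1 → 2 * m + 1 ≤ Q := fun m => two_mul_add_one_le hQo hQ2
  have hp : ∀ r : ℕ, r.Prime → r ∣ e → 2 * r + 1 ≤ Q := fun r hr hre =>
    hrest r (he.of_dvd_nat hre) (hroot r hr hre)
  have hQ7 : 7 ≤ Q := by
    obtain ⟨r, hr, hre⟩ := Nat.exists_prime_and_dvd (n := e) (by omega)
    have h3 : r ≠ 2 := fun h => by
      subst h
      exact (Nat.not_even_iff_odd.2 he) (even_iff_two_dvd.2 hre)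
    have := hp r hr hre
    have := hr.two_le
    omega
  have key : ∀ j q : ℕ, j ≤ d - 2 * d / 3 → q ≤ Q → e ^ 2 * y ≤ q ^ j →
      d * M ≤ 2 * (2 * d / 3) * Q ^ (d - 2 * d / 3) := by
    intro j q hj hq h
    refine Nat.mul_le_mul (by omega) (hM.trans (h.trans ?_))
    exact (Nat.pow_le_pow_left hq j).trans (Nat.pow_le_pow_right (by omega) hj)
  have key8 : ∀ j q : ℕ, j ≤ d - 2 * d / 3 → q ≤ Q → e ^ 6 ≤ 8 * q ^ j →
      d * M ≤ 2 * (2 * d / 3) * Q ^ (d - 2 * d / 3) := by
    intro j q hj hq h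
    refine key j q hj hq ?_
    have := Nat.mul_le_mul_left (e ^ 2) hy
    have h' : e ^ 2 * e ^ 4 = e ^ 6 := by ring
    rw [Nat.mul_left_comm, h'] at this
    omega
  by_cases h29 : 29 ≤ e
  · obtain ⟨i, hi⟩ : ∃ i, d - 2 * d / 3 = 10 + i := ⟨d - 2 * d / 3 - 10, by omega⟩
    refine key8 (10 + i) 7 (le_of_eq hi.symm) hQ7 (le_trans (Nat.pow_le_pow_left (by omega : e ≤ 3 * (10 + i)) 6) ?_)
    clear * -
    induction i with
    | zero => norm_num
    | succ i ih =>
      have h1 : (10 * (3 * (10 + (i + 1)))) ^ 6 ≤ (11 * (3 * (10 + i))) ^ 6 := Nat.pow_le_pow_left (by omega) _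
      rw [mul_pow 10, mul_pow 11] at h1
      have h2 : (3 * (10 + (i + 1))) ^ 6 ≤ 7 * (3 * (10 + i)) ^ 6 := by
        refine Nat.le_of_mul_le_mul_left ?_ (by norm_num : 0 < 10 ^ 6)
        calc 10 ^ 6 * (3 * (10 + (i + 1))) ^ 6 ≤ 11 ^ 6 * (3 * (10 + i)) ^ 6 := h1
          _ ≤ 7 * 10 ^ 6 * (3 * (10 + i)) ^ 6 := Nat.mul_le_mul_right _ (by norm_num)
          _ = _ := by ring
      calc _ ≤ 7 * (3 * (10 + i)) ^ 6 := h2
        _ ≤ 7 * (8 * 7 ^ (10 + i)) := Nat.mul_le_mul_left _ ih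
        _ = _ := by ring
  obtain ⟨j, rfl⟩ := id he
  have hj : 2 ≤ j ∧ j ≤ 13 := by omega
  have hnum : ∀ {q : ℕ}, (∃ r, r.Prime ∧ r ∣ 2 * j + 1 ∧ q ≤ 2 * r + 1) → q ≤ Q :=
    fun ⟨r, hr, hre, hq⟩ => hq.trans (hp r hr hre)
  obtain ⟨h2, h13⟩ := hj
  interval_cases j
  · -- 5
    refine key 2 11 (by omega) (hnum ⟨5, by norm_num, dvd_rfl, le_rfl⟩) ?_
    have := h5 rfl; norm_num; omega
  · -- 7
    refine key 3 15 (by omega) (hnum ⟨7, by norm_num, dvd_rfl, le_rfl⟩) ?_
    have := h7 rfl; norm_num; omega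
  · -- 9
    have h' := h9 rfl
    by_cases hd9 : d = 9
    · subst hd9
      have hQ3 := Nat.pow_le_pow_left hQ7 3
      norm_num at hM hQ3 ⊢
      omega
    · refine key 4 7 (by omega) hQ7 ?_
      norm_num; omega
  · refine key8 4 23 (by omega) (hnum ⟨11, by norm_num, dvd_rfl, le_rfl⟩) (by norm_num)
  · refine key8 5 27 (by omega) (hnum ⟨13, by norm_num, dvd_rfl, le_rfl⟩) (by norm_num)
  · refine key8 5 31 (by omega) ?_ (by norm_num)
    exact hrest 15 (by decide) (Nat.Coprime.mul_dvd_of_dvd_of_dvd (by norm_num : Nat.Coprime 3 5)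
      (hroot 3 (by norm_num) (by norm_num)) (hroot 5 (by norm_num) (by norm_num)))
  · refine key8 6 35 (by omega) (hnum ⟨17, by norm_num, dvd_rfl, le_rfl⟩) (by norm_num)
  · refine key8 7 39 (by omega) (hnum ⟨19, by norm_num, dvd_rfl, le_rfl⟩) (by norm_num)
  · refine key8 7 15 (by omega) (hnum ⟨7, by norm_num, by norm_num, le_rfl⟩) (by norm_num)
  · refine key8 8 47 (by omega) (hnum ⟨23, by norm_num, dvd_rfl, le_rfl⟩) (by norm_num)
  · refine key8 9 11 (by omega) (hnum ⟨5, by norm_num, by norm_num, le_rfl⟩) (by norm_num)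
  · -- 27
    by_cases hd27 : d = 27
    · subst hd27
      have hQ9 := Nat.pow_le_pow_left hQ7 9
      norm_num at hM hy hQ9 ⊢
      omega
    · refine key8 10 7 (by omega) hQ7 (by norm_num)

/-- With a base of size two, signs and the exchange give eight regular orbits. -/
theorem eight_mul_card_le {X N : Type*} [Group X] [Finite X] [AddCommGroup N] [Finite N]
    [DistribMulAction X N] [FaithfulSMul X N] (hX : Odd (Nat.card X)) (hN : Odd (Nat.card N))
    (h : HasPair X N) : 8 * Nat.card X ≤ Nat.card N * Nat.card N ∨ Nat.card X ≤ Nat.card N := by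
  classical
  obtain ⟨v, w, hvw⟩ := h
  have hreg : ∀ g : X, g • v = v → g • w = w → g = 1 := fun g h1 h2 =>
    eq_of_smul_eq_smul fun x : N => by rw [hvw g h1 h2, one_smul]
  have hno : ∀ u : N, -u = u → u = 0 := fun u hu =>
    AddMonoid.addOrderOf_eq_one_iff.1 (Nat.eq_one_of_dvd_coprimes (Nat.coprime_two_left.2 hN)
      (addOrderOf_dvd_of_nsmul_eq_zero (by rw [two_nsmul, add_eq_zero_iff_eq_neg, hu]))
      (addOrderOf_dvd_natCard u))
  have single : ∀ u : N, (∀ g : X, g • u = u → g = 1) → Nat.card X ≤ Nat.card N := fun u hu =>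
    Nat.card_le_card_of_injective (fun g => g • u) fun a b hab => by
      have h1 : b⁻¹ * a = 1 := hu _ (by rw [mul_smul]; exact inv_smul_eq_iff.2 hab)
      exact (inv_mul_eq_one.1 h1).symm
  by_cases h0 : v = 0 ∨ w = 0 ∨ w = v ∨ w = -v
  · right
    rcases h0 with h0 | h0 | h0 | h0
    · exact single w fun g hg => hreg g (by rw [h0, smul_zero]) hg
    · exact single v fun g hg => hreg g hg (by rw [h0, smul_zero])
    · exact single v fun g hg => hreg g hg (by rw [h0, hg])
    · exact single v fun g hg => hreg g hg (by rw [h0, smul_neg, hg])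
  left
  push Not at h0
  obtain ⟨hv0, hw0, hwv, hwv'⟩ := h0
  let sg : Bool → N → N := fun s u => if s then u else -u
  have hsg : ∀ (s : Bool) (g : X) (u : N), g • sg s u = sg s (g • u) := fun s g u => by
    cases s <;> simp [sg, smul_neg]
  have hsinv : ∀ (s t : Bool) (u u' : N), sg s u = sg t u' → u = sg (s == t) u' := by
    intro s t u u' h
    cases s <;> cases t <;> simp [sg] at h ⊢ <;> first | exact h | (rw [← h, neg_neg])
  have hfixed : ∀ (g : X) (u : N) (s : Bool), u ≠ 0 → g • u = sg s u → s = true ∧ g • u = u := by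
    intro g u s hu hgu
    cases s
    · exfalso
      have h1 : g • g • u = u := by rw [hgu, hsg, hgu]; simp [sg]
      have h2 := H35.OddBase.smul_fix_of_sq_fix hX h1
      exact hu (hno u (hgu.symm.trans h2))
    · exact ⟨rfl, hgu⟩
  let pt : Bool × Bool × Bool → N × N := fun t =>
    if t.1 then (sg t.2.1 v, sg t.2.2 w) else (sg t.2.1 w, sg t.2.2 v)
  have hinj : Function.Injective fun t : X × (Bool × Bool × Bool) => (t.1 • pt t.2 : N × N) := by
    rintro ⟨a, c, s, t⟩ ⟨b, c', s', t'⟩ hab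
    simp only at hab
    have h1 : (b⁻¹ * a) • pt (c, s, t) = pt (c', s', t') := by
      rw [mul_smul]; exact inv_smul_eq_iff.2 hab
    have hcross : ∀ (g : X) (p q : Bool), g • v = sg p w → g • w = sg q v → False := by
      intro g p q hp hq
      have h2 : (g * g) • v = sg (p == q) v := by
        rw [mul_smul, hp, hsg, hq]
        cases p <;> cases q <;> simp [sg]
      obtain ⟨-, h3⟩ := hfixed _ v _ hv0 h2
      rw [mul_smul] at h3
      have h4 := H35.OddBase.smul_fix_of_sq_fix hX h3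
      rw [h4] at hp
      cases p
      · exact hwv' (neg_eq_iff_eq_neg.1 hp.symm)
      · exact hwv hp.symm
    have e1 := congrArg Prod.fst h1
    have e2 := congrArg Prod.snd h1
    cases c <;> cases c' <;> simp only [pt, Prod.smul_fst, Prod.smul_snd, hsg, if_true,
      if_false, Bool.false_eq_true] at e1 e2
    · obtain ⟨hs, hw'⟩ := hfixed _ w _ hw0 (hsinv _ _ _ _ e1)
      obtain ⟨ht, hv'⟩ := hfixed _ v _ hv0 (hsinv _ _ _ _ e2)
      rw [beq_iff_eq] at hs ht
      rw [hs, ht, (inv_mul_eq_one.1 (hreg _ hv' hw')).symm]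
    · exact (hcross _ _ _ (hsinv _ _ _ _ e2) (hsinv _ _ _ _ e1)).elim
    · exact (hcross _ _ _ (hsinv _ _ _ _ e1) (hsinv _ _ _ _ e2)).elim
    · obtain ⟨hs, hv'⟩ := hfixed _ v _ hv0 (hsinv _ _ _ _ e1)
      obtain ⟨ht, hw'⟩ := hfixed _ w _ hw0 (hsinv _ _ _ _ e2)
      rw [beq_iff_eq] at hs ht
      rw [hs, ht, (inv_mul_eq_one.1 (hreg _ hv' hw')).symm]
  have h := Nat.card_le_card_of_injective _ hinj
  simp only [Nat.card_prod, Nat.card_eq_fintype_card (α := Bool), Fintype.card_bool] at h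
  omega

/-- A normal subgroup has no normal Sylow subgroup for the characteristic of the module. -/
theorem not_normal_sylow {X N : Type*} [Group X] [Finite X] [AddCommGroup N] [Finite N]
    [DistribMulAction X N] [FaithfulSMul X N] (hcr : IsCR X N) {p k : ℕ} [Fact p.Prime]
    (hN : Nat.card N = p ^ k) (Y : Subgroup X) [Y.Normal] {a m : ℕ} (ha : 0 < a)
    (hm : ¬ p ∣ m) (hY : Nat.card ↥Y = p ^ a * m)
    (hone : ∀ n : ℕ, n ∣ m → n % p = 1 → n = 1) : False := by
  classical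
  let P : Sylow p ↥Y := default
  have hP : Nat.card ↥(P : Subgroup ↥Y) = p ^ a := by
    rw [P.card_eq_multiplicity, hY, Nat.factorization_mul (pow_ne_zero _ (Fact.out : p.Prime).ne_zero)
      (fun h => hm (by rw [h]; exact dvd_zero p))]
    simp [Nat.factorization_pow, (Fact.out : p.Prime).factorization, Nat.factorization_eq_zero_of_not_dvd hm]
  have hidx : (P : Subgroup ↥Y).index = m := by
    have h := Subgroup.card_mul_index (P : Subgroup ↥Y)
    rw [hP, hY] at h
    exact Nat.eq_of_mul_eq_mul_left (pow_pos (Fact.out : p.Prime).pos a) h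
  have hone' : Nat.card (Sylow p ↥Y) = 1 := by
    refine hone _ (hidx ▸ Sylow.card_dvd_index P) ?_
    have := card_sylow_modEq_one p ↥Y
    rwa [Nat.ModEq, Nat.one_mod_eq_one.2 (Fact.out : p.Prime).ne_one] at this
  haveI : Subsingleton (Sylow p ↥Y) := (Nat.card_eq_one_iff_unique.1 hone').1
  haveI : (P : Subgroup ↥Y).Normal := Sylow.normal_of_subsingleton P
  haveI : (P : Subgroup ↥Y).Characteristic := Sylow.characteristic_of_normal P inferInstance
  haveI : ((P : Subgroup ↥Y).map Y.subtype).Normal := ConjAct.normal_of_characteristic_of_normal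
  have hbot := hcr.no_pGroup hN _ (P.isPGroup'.map Y.subtype)
  rw [(Subgroup.map_eq_bot_iff_of_injective _ Subtype.val_injective)] at hbot
  rw [hbot, Subgroup.card_bot] at hP
  exact absurd hP.symm (Nat.one_lt_pow ha.ne' (Fact.out : p.Prime).one_lt).ne'

/-- The order on a section of order twenty-five. -/
theorem card_le_three {X N : Type} [Group X] [Finite X] [AddCommGroup N] [Finite N]
    [DistribMulAction X N] [FaithfulSMul X N] (hX : Odd (Nat.card X)) (hcr : IsCR X N)
    (hN : Nat.card N = 5 ^ 2) (Y : Subgroup X) [Y.Normal] : Nat.card ↥Y ≤ 3 := by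
  haveI : Fact (Nat.Prime 5) := ⟨by norm_num⟩
  have hb : Nat.card ↥Y ∣ 15 := by
    refine (Subgroup.card_subgroup_dvd_card Y).trans ?_
    have h' := H35.OddBase.card_dvd_GL (X := X) (p := 5) (k := 2) (hcr.exponent (k := 2) hN) hN
    simp [Fin.prod_univ_succ] at h'
    exact H35.OddBase.odd_dvd_of_dvd (a := 5) hX (h'.trans (by norm_num))
  have hne : ∀ m : ℕ, ¬ 5 ∣ m → (∀ n : ℕ, n ∣ m → n % 5 = 1 → n = 1) → Nat.card ↥Y ≠ 5 ^ 1 * m :=
    fun m hm hone hY => not_normal_sylow hcr hN Y Nat.one_pos hm hY hone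
  have hmem : Nat.card ↥Y ∈ ({1, 3, 5, 15} : Finset ℕ) := by
    rw [show ({1, 3, 5, 15} : Finset ℕ) = Nat.divisors 15 by decide]
    exact Nat.mem_divisors.2 ⟨hb, by norm_num⟩
  simp only [Finset.mem_insert, Finset.mem_singleton] at hmem
  rcases hmem with hc | hc | hc | hc
  · omega
  · omega
  · exact absurd hc (hne 1 (by norm_num) fun n hn _ => Nat.dvd_one.1 hn)
  · exact absurd hc (hne 3 (by norm_num) fun n hn hn' => by
      have := Nat.le_of_dvd (by norm_num) hn
      interval_cases n <;> simp_all)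

/-- The order on a section of order eighty-one, without elements of order thirteen. -/
theorem card_le_five {X N : Type} [Group X] [Finite X] [AddCommGroup N] [Finite N]
    [DistribMulAction X N] [FaithfulSMul X N] (hX : Odd (Nat.card X)) (hs : Group.IsSolvable X)
    (hcr : IsCR X N) (hN : Nat.card N = 9 ^ 2) (Y : Subgroup X) [Y.Normal]
    (h13 : ¬ 13 ∣ Nat.card ↥Y) : Nat.card ↥Y ≤ 5 := by
  haveI : Fact (Nat.Prime 3) := ⟨Nat.prime_three⟩
  have hN' : Nat.card N = 3 ^ 4 := by rw [hN]; norm_num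
  have hyx := Subgroup.card_subgroup_dvd_card Y
  have h39 := (Nat.le_of_dvd Nat.card_pos hyx).trans
    (H35.OddBase.bound_eightyOne hX hs hcr (by rw [hN]; norm_num))
  have hYodd : Odd (Nat.card ↥Y) := hX.of_dvd_nat hyx
  have h' := H35.OddBase.card_dvd_GL (X := X) (p := 3) (k := 4) (hcr.exponent (k := 4) hN') hN'
  simp [Fin.prod_univ_succ] at h'
  have hd := hyx.trans (H35.OddBase.odd_dvd_of_dvd (a := 9) (m := 3 ^ 6 * 5 * 13) hX (h'.trans (by norm_num)))
  have hne : ∀ a m, 0 < a → ¬ 3 ∣ m → (∀ n : ℕ, n ∣ m → n % 3 = 1 → n = 1) →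
      Nat.card ↥Y ≠ 3 ^ a * m :=
    fun a m ha hm hone hY => not_normal_sylow hcr hN' Y ha hm hY hone
  obtain ⟨y, hy'⟩ : ∃ y, Nat.card ↥Y = y := ⟨_, rfl⟩
  rw [hy'] at h39 h13 hYodd hd ⊢
  by_contra hbig
  have h9 := hne 2 1 (by norm_num) (by norm_num) (fun n hn _ => Nat.dvd_one.1 hn)
  have h27 := hne 3 1 (by norm_num) (by norm_num) (fun n hn _ => Nat.dvd_one.1 hn)
  have h15 := hne 1 5 (by norm_num) (by norm_num) (fun n hn hn' => by
    have := Nat.le_of_dvd (by norm_num) hn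
    interval_cases n <;> simp_all)
  rw [hy'] at h9 h27 h15
  norm_num at h9 h27 h15
  rw [Nat.odd_iff] at hYodd
  interval_cases y <;> norm_num at *

/-- No isometry of order thirteen on a nondegenerate section of order eighty-one. -/
theorem no_thirteen {N A : Type} [CommGroup N] [Finite N] [CommGroup A]
    (P : H35.OddBase.AltPairing N A) {t : MulAut N} (ht : orderOf t = 13) (hN : Nat.card N = 9 ^ 2)
    (hexp : ∀ x : N, x ^ 3 = 1) (hinv : ∀ x y : N, P.β (t x) (t y) = P.β x y) : False := by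
  haveI : Fact (Nat.Prime 13) := ⟨by norm_num⟩
  haveI : Fact (Nat.Prime 3) := ⟨Nat.prime_three⟩
  let Fx : Subgroup N := t.toMonoidHom.eqLocus (MonoidHom.id N)
  have hp : IsPGroup 13 (Subgroup.zpowers t) :=
    IsPGroup.of_card (n := 1) (by rw [Nat.card_zpowers, ht, pow_one])
  letI : MulAction (Subgroup.zpowers t) N :=
    { smul := fun s x => (s : MulAut N) x
      one_smul := fun x => rfl
      mul_smul := fun a b x => rfl }
  have hmod := hp.card_modEq_card_fixedPoints N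
  have hc : Nat.card (MulAction.fixedPoints (Subgroup.zpowers t) N) = Nat.card ↥Fx := by
    refine Nat.card_congr (Equiv.subtypeEquivRight fun v => ?_)
    rw [MulAction.mem_fixedPoints]
    refine ⟨fun h => h ⟨t, Subgroup.mem_zpowers t⟩, fun h g => ?_⟩
    obtain ⟨g, hg⟩ := g
    have hle : Subgroup.zpowers t ≤ MulAction.stabilizer (MulAut N) v :=
      Subgroup.zpowers_le.2 (show t v = v from h)
    exact hle hg
  obtain ⟨i, hi4, hi⟩ := (Nat.dvd_prime_pow Nat.prime_three).1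
    ((show Nat.card N = 3 ^ 4 by rw [hN]; norm_num) ▸ Subgroup.card_subgroup_dvd_card Fx)
  rw [hc, hi, hN] at hmod
  interval_cases i
  · simp [Nat.ModEq] at hmod
  · obtain ⟨f, hf⟩ := exists_prime_orderOf_dvd_card' (G := ↥Fx) 3 (by rw [hi]; norm_num)
    have hf0 : f ≠ 1 := fun h0 => by rw [h0, orderOf_one] at hf; norm_num at hf
    have htop : Subgroup.zpowers f = ⊤ :=
      Subgroup.eq_top_of_card_eq _ (by rw [Nat.card_zpowers, hf, hi, pow_one])
    have hfu : t f.1 = f.1 := f.2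
    refine hf0 (Subtype.ext (P.nondeg f.1 fun x => ?_))
    have hinvar : ∀ y : N, P.β f.1 (t y) = P.β f.1 y := fun y => by
      conv_lhs => rw [← hfu, hinv]
    let z : ℕ → N := fun n => ∏ i ∈ Finset.range n, (t ^ i) x
    have hgi : ∀ i : ℕ, P.β f.1 ((t ^ i) x) = P.β f.1 x := by
      intro i
      induction i with
      | zero => rfl
      | succ i ih => rw [pow_succ', MulAut.mul_apply, hinvar, ih]
    have hz : P.β f.1 (z 13) = P.β f.1 x ^ 13 := by
      simp only [z, map_prod, hgi, Finset.prod_const, Finset.card_range]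
    have hfix : t (z 13) = z 13 := by
      have h1 : t (z 13) = ∏ i ∈ Finset.range 13, (t ^ (i + 1)) x := by
        simp only [z, map_prod, pow_succ', MulAut.mul_apply]
      have h2 := Finset.prod_range_succ' (fun i => (t ^ i) x) 13
      rw [Finset.prod_range_succ, ← ht, pow_orderOf_eq_one, pow_zero, MulAut.one_apply, ht] at h2
      rw [h1]
      exact (mul_right_cancel h2).symm
    obtain ⟨k, hk⟩ := Subgroup.mem_zpowers_iff.1
      (htop ▸ Subgroup.mem_top (⟨z 13, hfix⟩ : ↥Fx) : (⟨z 13, hfix⟩ : ↥Fx) ∈ Subgroup.zpowers f)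
    have hk' : z 13 = f.1 ^ k := congrArg Subtype.val hk.symm
    rw [hk', map_zpow, P.alt, one_zpow] at hz
    have h3 : P.β f.1 x ^ 3 = 1 := (P.β_pow_eq_one_iff f.1 3).2 (hexp _) x
    have := pow_gcd_eq_one.2 ⟨hz.symm, h3⟩
    rwa [show Nat.gcd 13 3 = 1 from rfl, pow_one] at this
  · simp [Nat.ModEq] at hmod
  · simp [Nat.ModEq] at hmod
  · have htop : Fx = ⊤ := Subgroup.eq_top_of_card_eq _ (by rw [hi, hN]; norm_num)
    have : t = 1 := MulEquiv.ext fun v => (show v ∈ Fx from htop ▸ Subgroup.mem_top v)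
    rw [this, orderOf_one] at ht
    norm_num at ht

/-- A vector with trivial stabiliser inside the kernel of the field action. -/
theorem exists_free {G V K : Type} [Group G] [Finite G] [AddCommGroup V] [Finite V]
    [DistribMulAction G V] [FaithfulSMul G V] [Field K] [Finite K] [Module K V] [Nontrivial V]
    (S : Frame G V K) (hodd : Odd (Nat.card G)) (L : ℕ) (hL0 : 0 < L) (hLd : L ≤ finrank K V)
    (hL : 2 * finrank K V / 3 ≤ L) (hQ : 3 ≤ Nat.card K)
    (hfix : ∀ x : ↥S.σ.ker, (x : G) ∉ S.A → 3 * finrank K (S.fixSpace x) ≤ 2 * finrank K V)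
    (h : finrank K V * S.A.relIndex S.σ.ker ≤ 2 * L * Nat.card K ^ (finrank K V - L)) :
    ∃ v : V, v ≠ 0 ∧ ∀ g ∈ S.σ.ker, g • v = v → g = 1 := by
  classical
  haveI := S.normal
  haveI : Fintype ↥S.A := Fintype.ofFinite _
  by_contra hcon
  push Not at hcon
  let C := ↥S.σ.ker
  let A0 : Subgroup C := S.A.subgroupOf S.σ.ker
  haveI : A0.Normal := Subgroup.normal_subgroupOf
  have hbad : ∀ v : V, v ≠ 0 → ∃ g : C, g ∉ A0 ∧ (g : G) • v = v := by
    intro v hv
    obtain ⟨g, hg, hgv, hg1⟩ := hcon v hv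
    refine ⟨⟨g, hg⟩, fun hgA => hg1 ?_, hgv⟩
    have hι : S.ι ⟨g, hgA⟩ = 1 :=
      smul_left_injective K hv ((S.scal ⟨g, hgA⟩ v).symm.trans (hgv.trans (one_smul K v).symm))
    exact eq_of_smul_eq_smul fun x : V => by rw [S.scal ⟨g, hgA⟩, hι, one_smul, one_smul]
  choose g hgA hgv using hbad
  have hQodd : Odd (Nat.card (C ⧸ A0)) :=
    (hodd.of_dvd_nat (Subgroup.card_subgroup_dvd_card S.σ.ker)).of_dvd_nat (Subgroup.card_quotient_dvd_card _)
  haveI := Fintype.ofFinite (C ⧸ A0)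
  have hne : ∀ v hv, ((g v hv : C) : C ⧸ A0) ≠ 1 := fun v hv h =>
    hgA v hv ((QuotientGroup.eq_one_iff _).1 h)
  have hmem : ∀ k : C, ((Quotient.out (k : C ⧸ A0))⁻¹ * k : C).1 ∈ S.A := fun k =>
    Subgroup.mem_subgroupOf.1 ((QuotientGroup.eq (s := A0)).1 (QuotientGroup.out_eq' (k : C ⧸ A0)))
  let T : {q : C ⧸ A0 // q ≠ 1} → ↥S.A → Type := fun q z =>
    {v : V // v ≠ 0 ∧ ((q.1.out : G) * z) • v = v}
  let mkT : ∀ (k : C) (hk : (k : C ⧸ A0) ≠ 1) (v : V), v ≠ 0 → (k : G) • v = v → Σ q, Σ z, T q z :=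
    fun k hk v hv e1 => ⟨⟨(k : C ⧸ A0), hk⟩, ⟨_, hmem k⟩, ⟨v, hv, by
      rw [← Subgroup.coe_mul, mul_inv_cancel_left]; exact e1⟩⟩
  let φ : {v : V // v ≠ 0} × Bool → Σ q, Σ z, T q z := fun t =>
    if t.2 then mkT (g t.1.1 t.1.2) (hne _ _) t.1.1 t.1.2 (hgv _ _)
    else mkT (g t.1.1 t.1.2)⁻¹ (by rw [QuotientGroup.mk_inv, inv_ne_one]; exact hne _ _) t.1.1 t.1.2
      (inv_smul_eq_iff.2 (hgv _ _).symm)
  have hφ : Function.Injective φ := by
    rintro ⟨⟨p, hp⟩, i⟩ ⟨⟨p', hp'⟩, i'⟩ he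
    have hpp : p = p' := by
      have := congrArg (fun t => (t.2.2.1 : V)) he
      cases i <;> cases i' <;> simpa [φ, mkT] using this
    subst hpp
    have h2 := congrArg (fun t => (t.1.1 : C ⧸ A0)) he
    cases i <;> cases i' <;> simp [φ, mkT] at h2 ⊢
    · exact H35.OddBase.inv_ne_self_of_odd hQodd (hne p hp) h2
    · exact H35.OddBase.inv_ne_self_of_odd hQodd (hne p hp) h2.symm
  haveI : ∀ q z, Finite (T q z) := fun q z => Subtype.finite
  have hT : ∀ q z, Nat.card (T q z) = Nat.card {v : V // ((q.1.out : G) * (z : G)) • v = v} - 1 := by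
    intro q z
    haveI := Fintype.ofFinite {v : V // ((q.1.out : G) * (z : G)) • v = v}
    let z0 : {v : V // ((q.1.out : G) * (z : G)) • v = v} := ⟨0, smul_zero _⟩
    have h1 : Nat.card (T q z) = Nat.card {t : {v : V // ((q.1.out : G) * (z : G)) • v = v} // t ≠ z0} :=
      Nat.card_congr
        { toFun := fun t => ⟨⟨t.1, t.2.2⟩, fun h => t.2.1 (congrArg Subtype.val h)⟩
          invFun := fun t => ⟨t.1.1, fun h => t.2 (Subtype.ext h), t.1.2⟩
          left_inv := fun t => rfl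
          right_inv := fun t => rfl }
    rw [h1, Nat.card_eq_fintype_card, Fintype.card_subtype_compl, Fintype.card_subtype_eq,
      Nat.card_eq_fintype_card]
  set d := finrank K V with hd
  set Q := Nat.card K with hQdef
  have hcos : ∀ q : {q : C ⧸ A0 // q ≠ 1},
      L * ∑ z : ↥S.A, Nat.card (T q z) ≤ d * (Q ^ L - 1) := by
    intro q
    have hsum := H35.OddBase.sum_finrank_eigenspace_le (S.toEnd q.1.out)
      (fun z : ↥S.A => (S.ι z)⁻¹) fun a b h => S.ι_injective (inv_injective h)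
    rw [Finset.mul_sum]
    refine le_trans (Finset.sum_le_sum fun z _ => ?_)
      ((Finset.sum_mul _ _ _).symm.le.trans (Nat.mul_le_mul_right _ hsum))
    rw [hT, S.card_fix]
    refine H35.OddBase.mul_sub_one_le Nat.card_pos ?_
    have hmem' : (q.1.out : G) * z ∈ S.σ.ker := S.σ.ker.mul_mem q.1.out.2 (S.A_le_ker z.2)
    have hnA : (q.1.out : G) * z ∉ S.A := fun h => q.2 (by
      rw [← QuotientGroup.out_eq' q.1]
      refine (QuotientGroup.eq_one_iff _).2 ?_
      show (q.1.out : G) ∈ S.A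
      simpa using S.A.mul_mem h (S.A.inv_mem z.2))
    have h2 : (S.toEnd q.1.out).eigenspace (S.ι z)⁻¹ = S.fixSpace ⟨_, hmem'⟩ := by
      ext v
      rw [S.mem_fixSpace, Module.End.mem_eigenspace_iff, S.toEnd_apply, mul_smul, S.scal, S.semi,
        MonoidHom.mem_ker.1 q.1.out.2, RingAut.one_apply]
      have hz : S.ι z ≠ 0 := fun h0 => by
        obtain ⟨w, hw⟩ := exists_ne (0 : V)
        have := S.scal z w
        rw [h0, zero_smul, smul_eq_zero_iff_eq] at this
        exact hw this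
      exact eq_inv_smul_iff₀ hz
    have h3 := hfix ⟨_, hmem'⟩ hnA
    rw [← h2] at h3
    omega
  have h1 := Nat.card_le_card_of_injective φ hφ
  haveI := Fintype.ofFinite V
  have hcardV : Nat.card {v : V // v ≠ 0} = Q ^ d - 1 := by
    rw [Nat.card_eq_fintype_card, Fintype.card_subtype_compl, Fintype.card_subtype_eq,
      ← Nat.card_eq_fintype_card, Module.natCard_eq_pow_finrank (K := K)]
  rw [Nat.card_prod, hcardV, Nat.card_eq_fintype_card (α := Bool), Fintype.card_bool, Nat.card_sigma] at h1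
  simp only [Nat.card_sigma] at h1
  have h2 : L * ((Q ^ d - 1) * 2) ≤ (S.A.relIndex S.σ.ker - 1) * (d * (Q ^ L - 1)) := by
    refine (Nat.mul_le_mul_left L h1).trans ?_
    rw [Finset.mul_sum]
    refine (Finset.sum_le_sum fun q _ => hcos q).trans (le_of_eq ?_)
    rw [Finset.sum_const, Finset.card_univ, smul_eq_mul, Fintype.card_subtype_compl,
      Fintype.card_subtype_eq, ← Nat.card_eq_fintype_card]
    rfl
  set M := S.A.relIndex S.σ.ker
  have hM1 : 1 ≤ M := Nat.one_le_iff_ne_zero.2 Subgroup.index_ne_zero_of_finite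
  have hQd : Q ^ (d - L) * Q ^ L = Q ^ d := by rw [← pow_add, Nat.sub_add_cancel hLd]
  have hQL : 3 ≤ Q ^ L := hQ.trans (Nat.le_self_pow hL0.ne' Q)
  obtain ⟨M', hM'⟩ : ∃ M', M = M' + 1 := ⟨M - 1, by omega⟩
  rw [hM', Nat.add_sub_cancel] at h2
  rw [hM'] at h
  have h3 := Nat.mul_le_mul_right (Q ^ L) h
  rw [mul_assoc (2 * L), hQd] at h3
  have h4 : M' * (d * (Q ^ L - 1)) ≤ M' * (d * Q ^ L) :=
    Nat.mul_le_mul_left _ (Nat.mul_le_mul_left _ (Nat.sub_le _ _))
  have h5 : d * (M' + 1) * Q ^ L = M' * (d * Q ^ L) + d * Q ^ L := by ring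
  have h6 : 3 * L ≤ d * Q ^ L := by
    calc 3 * L ≤ Q ^ L * d := Nat.mul_le_mul hQL hLd
      _ = _ := mul_comm _ _
  have h7 : L * ((Q ^ d - 1) * 2) + 2 * L = 2 * L * Q ^ d := by
    have : 1 ≤ Q ^ d := Nat.one_le_pow _ _ (by omega)
    calc _ = 2 * L * (Q ^ d - 1 + 1) := by ring
      _ = _ := by rw [Nat.sub_add_cancel this]
  omega

end H21.Orbit
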